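import Groth.Agent.Lib.Amp36.TopVanish
import Groth.Agent.Lib.Exchange.Fibre
import Groth.Agent.Lib.FibreVanish36.Affine
import Groth.Agent.Lib.FibreVanish36.Coherent
import Groth.Agent.Lib.FibreDim.Semicont
import Groth.Agent.Lib.Snapper.Twist
import Groth.Agent.Lib.CohBasics.Closure
import Groth.Agent.Lib.ZarCoh.Morph

/-!
# Charts of a proper morphism over affine opens of the base, and cohomology of the structure sheaf
-/

set_option autoImplicit false
set_option linter.style.haveILetI false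
universe u

open CategoryTheory Limits AlgebraicGeometry Opposite TopologicalSpace

namespace Groth.Agent.Lib.Amp36.Chart

open Groth.Agent.Lib Groth.Agent.Lib.FlatCxW.Watts ZarCoh.Exchange.Sections TopDegree TopVanish

noncomputable section

/-! ### Open immersions -/

/-- The cohomology of the structure sheaf along an open immersion. -/
theorem nonempty_opn {U X : Scheme.{u}} (j : U ⟶ X) [IsOpenImmersion j] (n : ℕ) :
    Nonempty (Coh.HH U (Coh.structureModule U) n ≃+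
      CohTop.HU (Coh.toAb (Coh.structureModule X)) n j.opensRange) := by
  have e := ZarCoh.Morph.openEquiv j (Coh.structureModule X) n
  rw [Scheme.Hom.image_top_eq_opensRange] at e
  exact ⟨((CohIII.HAb U n).mapIso (Scheme.Modules.restrictUnitIso j).symm).addCommGroupIsoToAddEquiv.trans e⟩

/-- The cohomology over an open subscheme with everything. -/
theorem nonempty_top {U X : Scheme.{u}} (j : U ⟶ X) [IsOpenImmersion j] (h : j.opensRange = ⊤)
    (M : X.Modules) (n : ℕ) : Nonempty (Coh.HH U (M.restrict j) n ≃+ Coh.HH X M n) := by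
  have e := ZarCoh.Morph.openEquiv j M n
  rw [Scheme.Hom.image_top_eq_opensRange, h] at e
  exact ⟨e.trans (ZarCoh.Compare.hTop (Coh.toAb M) n).symm⟩

theorem isCoh_structureModule_iso {X : Scheme.{u}} {M : X.Modules} (e : M ≅ Coh.structureModule X) :
    Coh.IsCoh M :=
  CohBasics.Closure.isCoh_of_iso e.symm (Snapper.Twist.isCoh_structureModule X)

/-! ### Charts -/

variable {X Y : Scheme.{u}} (f : X ⟶ Y) {W : Y.Opens} (hW : IsAffineOpen W)

include hW

/-- The structure map of the chart. -/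
abbrev π : (f ⁻¹ᵁ W).toScheme ⟶ Spec (CommRingCat.of Γ(Y, W)) := f ∣_ W ≫ hW.isoSpec.hom

/-- The chart over `Spec Γ(Y, W)`. -/
@[implicit_reducible]
def ov : (f ⁻¹ᵁ W).toScheme.Over (Spec (CommRingCat.of Γ(Y, W))) := ⟨π f hW⟩

theorem isProper_ov [IsProper f] : letI := ov f hW
    IsProper ((f ⁻¹ᵁ W).toScheme ↘ Spec (CommRingCat.of Γ(Y, W))) := by
  haveI : IsProper (f ∣_ W) := MorphismProperty.of_isPullback
    (isPullback_morphismRestrict f W).flip inferInstance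
  show IsProper (f ∣_ W ≫ hW.isoSpec.hom)
  infer_instance

/-- Fibres of bounded dimension. -/
theorem fiber_dim (d : ℕ) (hd : ∀ y ∈ W, topologicalKrullDim ↥(f.fiber y) ≤ d)
    (t : Spec (CommRingCat.of Γ(Y, W))) : topologicalKrullDim ↥((π f hW).fiber t) ≤ d := by
  refine le_trans (le_of_eq ?_) (hd (hW.isoSpec.inv t).1 (hW.isoSpec.inv t).2)
  rw [FibreDim.Basic.topologicalKrullDim_fiber, FibreDim.Basic.topologicalKrullDim_fiber]
  have hi : Topology.IsInducing fun z : ↥((π f hW).base ⁻¹' {t}) => (f ⁻¹ᵁ W).ι z.1 :=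
    (f ⁻¹ᵁ W).ι.isOpenEmbedding.isInducing.comp Topology.IsInducing.subtypeVal
  have hr : Set.range (fun z : ↥((π f hW).base ⁻¹' {t}) => (f ⁻¹ᵁ W).ι z.1) =
      f.base ⁻¹' {(hW.isoSpec.inv t).1} := by
    ext x
    constructor
    · rintro ⟨⟨z, hz⟩, rfl⟩
      show f z.1 = _
      have hz' : hW.isoSpec.hom ((f ∣_ W) z) = t := hz
      have h2 : (f ∣_ W) z = hW.isoSpec.inv t := by
        rw [← hz', ← Scheme.Hom.comp_apply, Iso.hom_inv_id]; rfl
      rw [← h2]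
      exact (morphismRestrict_base_coe f W z).symm
    · intro hx
      have hx' : f x = (hW.isoSpec.inv t).1 := hx
      refine ⟨⟨⟨x, show f x ∈ W by rw [hx']; exact (hW.isoSpec.inv t).2⟩, ?_⟩, rfl⟩
      show hW.isoSpec.hom ((f ∣_ W) _) = t
      have h2 : (f ∣_ W) ⟨x, show f x ∈ W by rw [hx']; exact (hW.isoSpec.inv t).2⟩ =
          hW.isoSpec.inv t := Subtype.ext ((morphismRestrict_base_coe f W _).trans hx')
      rw [h2, ← Scheme.Hom.comp_apply, Iso.inv_hom_id]; rfl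
  have he : Topology.IsEmbedding fun z : ↥((π f hW).base ⁻¹' {t}) => (f ⁻¹ᵁ W).ι z.1 :=
    ⟨hi, fun a b h => Subtype.ext ((f ⁻¹ᵁ W).ι.isOpenEmbedding.injective h)⟩
  exact (he.toHomeomorph.trans (Homeomorph.setCongr hr)).isHomeomorph.topologicalKrullDim_eq _

theorem van [IsProper f] (d : ℕ) (hd : ∀ y ∈ W, topologicalKrullDim ↥(f.fiber y) ≤ d) (p : ℕ)
    (hp : d ≤ p) : Van (f ⁻¹ᵁ W).toScheme (p + 1) := fun N hN => by
  letI := ov f hW
  haveI : IsProper (π f hW) := isProper_ov f hW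
  haveI := hN
  exact FibreVanish36.Affine.subsingleton_HH FibreVanish36.Coherent.cohVanish (π f hW) d
    (fiber_dim f hW d hd) N p hp

omit hW in
/-- `O` on the chart. -/
abbrev O₁ (X : Scheme.{u}) : X.Modules := Coh.structureModule X

omit hW in
instance isQCoh_O₁ (X : Scheme.{u}) : (O₁ X).IsQuasicoherent :=
  (Snapper.Twist.isCoh_structureModule X).1

theorem finite [IsProper f] (d : ℕ) (hd : ∀ y ∈ W, topologicalKrullDim ↥(f.fiber y) ≤ d) :
    letI := ov f hW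
    Module.Finite Γ(Y, W)
      (Coh.HH (f ⁻¹ᵁ W).toScheme (G (O₁ _) (ModuleCat.of Γ(Y, W) Γ(Y, W))) d) := by
  letI := ov f hW
  haveI := isProper_ov f hW
  exact FibreVanish36.Finite.finite_HH Γ(Y, W) _ d (fiber_dim f hW d hd) _
    (isCoh_structureModule_iso (ZarCoh.Exchange.Main.oneIso Γ(Y, W) (O₁ _)))

/-- The square over a smaller affine open. -/
theorem exists_square {X' Y' : Scheme.{u}} {f' : X' ⟶ Y'} {g' : X' ⟶ X} {g : Y' ⟶ Y}
    (hc : IsPullback g' f' f g) {U : Y'.Opens} (hU : IsAffineOpen U) (e : U ≤ g ⁻¹ᵁ W) :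
    ∃ g'' : (f' ⁻¹ᵁ U).toScheme ⟶ (f ⁻¹ᵁ W).toScheme,
      IsPullback g'' (π f' hU) (π f hW) (Spec.map (g.appLE W U e)) := by
  have e' : f' ⁻¹ᵁ U ≤ g' ⁻¹ᵁ (f ⁻¹ᵁ W) := fun x hx => by
    show f (g' x) ∈ W
    rw [← Scheme.Hom.comp_apply, hc.w, Scheme.Hom.comp_apply]
    exact e hx
  refine ⟨g'.resLE _ _ e', ?_⟩
  have h1 : IsPullback ((f' ⁻¹ᵁ U).ι ≫ g') (f' ∣_ U) f (U.ι ≫ g) :=
    (isPullback_morphismRestrict f' U).flip.paste_horiz hc
  have h2 : IsPullback (g'.resLE _ _ e') (f' ∣_ U) (f ∣_ W) (g.resLE W U e) := by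
    refine IsPullback.of_right (h₁₂ := (f ⁻¹ᵁ W).ι) (h₂₂ := W.ι) (v₁₃ := f) ?_ ?_
      (isPullback_morphismRestrict f W).flip
    · rw [Scheme.Hom.resLE_comp_ι, Scheme.Hom.resLE_comp_ι]; exact h1
    · rw [← cancel_mono W.ι, Category.assoc, morphismRestrict_ι, Scheme.Hom.resLE_comp_ι_assoc,
        hc.w, Category.assoc, Scheme.Hom.resLE_comp_ι, morphismRestrict_ι_assoc]
  refine IsPullback.of_iso h2 (Iso.refl _) (Iso.refl _) hU.isoSpec hW.isoSpec ?_ ?_ ?_ ?_
  · simp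
  · simp [π]
  · simp [π]
  · rw [← cancel_mono hW.isoSpec.inv, ← cancel_mono W.ι, Category.assoc, Category.assoc,
      Category.assoc, Category.assoc, Iso.hom_inv_id_assoc, Scheme.Hom.resLE_comp_ι,
      IsAffineOpen.isoSpec_inv_ι, IsAffineOpen.SpecMap_appLE_fromSpec, ← Category.assoc,
      ← IsAffineOpen.isoSpec_inv_ι hU, Iso.hom_inv_id_assoc]
    exact hU

/-- Cohomology of the base change, naturally. -/
theorem nonempty_natIso [IsProper f] {X' Y' : Scheme.{u}} {f' : X' ⟶ Y'} {g' : X' ⟶ X} {g : Y' ⟶ Y}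
    (hc : IsPullback g' f' f g) {U : Y'.Opens} (hU : IsAffineOpen U) (e : U ≤ g ⁻¹ᵁ W) (n : ℕ) :
    letI := ov f hW
    letI := ov f' hU
    letI : Algebra Γ(Y, W) Γ(Y', U) := (g.appLE W U e).hom.toAlgebra
    ∃ (M : (f' ⁻¹ᵁ U).toScheme.Modules) (_ : M ≅ O₁ _),
      Nonempty (CohIII.tensorAFunctor Γ(Y', U) M ⋙ CohIII.HAb _ n ≅
        ZarCoh.Exchange.ExtScalars.res (A := Γ(Y, W)) (B := Γ(Y', U)) ⋙
          CohIII.tensorAFunctor Γ(Y, W) (O₁ (f ⁻¹ᵁ W).toScheme) ⋙ CohIII.HAb _ n) := by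
  letI := ov f hW
  letI := ov f' hU
  letI : Algebra Γ(Y, W) Γ(Y', U) := (g.appLE W U e).hom.toAlgebra
  haveI := isProper_ov f hW
  obtain ⟨g'', h⟩ := exists_square f hW hc hU e
  exact ⟨(Scheme.Modules.pullback g'').obj (O₁ _), PicLoc.pullbackStructureIso g'',
    ZarCoh.Exchange.BaseChange.nonempty_baseChange_iso h (O₁ _) n⟩

/-- Vanishing of the cohomology of a base change. -/
theorem subsingleton_iff [IsProper f] {X' Y' : Scheme.{u}} {f' : X' ⟶ Y'} {g' : X' ⟶ X}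
    {g : Y' ⟶ Y} (hc : IsPullback g' f' f g) {U : Y'.Opens} (hU : IsAffineOpen U)
    (e : U ≤ g ⁻¹ᵁ W) (n : ℕ) :
    letI := ov f hW
    letI : Algebra Γ(Y, W) Γ(Y', U) := (g.appLE W U e).hom.toAlgebra
    Subsingleton (Coh.HH (f' ⁻¹ᵁ U).toScheme (O₁ _) n) ↔
      Zero Γ(Y, W) (O₁ (f ⁻¹ᵁ W).toScheme) n (ModuleCat.of Γ(Y, W) Γ(Y', U)) := by
  letI := ov f hW
  letI := ov f' hU
  letI : Algebra Γ(Y, W) Γ(Y', U) := (g.appLE W U e).hom.toAlgebra
  obtain ⟨M, i, ⟨b⟩⟩ := nonempty_natIso f hW hc hU e n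
  exact ((Curves.LES.isoK Γ(Y', U) ((ZarCoh.Exchange.Main.oneIso Γ(Y', U) M) ≪≫ i) n).toEquiv.symm.trans
    ((b.app (ModuleCat.of Γ(Y', U) Γ(Y', U))).addCommGroupIsoToAddEquiv.toEquiv)).subsingleton_congr

omit hW in
/-- Vanishing on the preimage of an affine open, in the form `HHon`. -/
theorem HHon_iff (f' : X ⟶ Y) (n : ℕ) :
    Subsingleton (Coh.HHon X (O₁ X) (f' ⁻¹ᵁ W) n) ↔
      Subsingleton (Coh.HH (f' ⁻¹ᵁ W).toScheme (O₁ _) n) :=
  ((CohIII.HAb _ n).mapIso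
    (Scheme.Modules.restrictUnitIso (f' ⁻¹ᵁ W).ι)).addCommGroupIsoToAddEquiv.toEquiv.subsingleton_congr

/-- The fibre. -/
theorem fiber_iff [IsProper f] (d : ℕ) (hd : ∀ y ∈ W, topologicalKrullDim ↥(f.fiber y) ≤ d) {y : Y}
    (hy : y ∈ W) :
    letI := ov f hW
    Subsingleton (Coh.HH (f.fiber y) (O₁ _) d) ↔
      Zero Γ(Y, W) (O₁ (f ⁻¹ᵁ W).toScheme) d
        (ModuleCat.of Γ(Y, W) (hW.primeIdealOf ⟨y, hy⟩).asIdeal.ResidueField) := by
  letI := ov f hW
  haveI := isProper_ov f hW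
  let h := Y.fromSpecResidueField y
  have hc : IsPullback (f.fiberι y) (f.fiberToSpecResidueField y) f h := IsPullback.of_hasPullback _ _
  let z : Spec (Y.residueField y) := IsLocalRing.closedPoint (Y.residueField y)
  have hz : h z = y := Scheme.fromSpecResidueField_apply _ _
  have e : (⊤ : (Spec (Y.residueField y)).Opens) ≤ h ⁻¹ᵁ W := fun x _ => by
    show h x ∈ W
    rw [Subsingleton.elim (α := PrimeSpectrum _) x z, hz]; exact hy
  have hU : IsAffineOpen (⊤ : (Spec (Y.residueField y)).Opens) := isAffineOpen_top _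
  letI : Algebra Γ(Y, W) Γ(Spec (Y.residueField y), ⊤) := (h.appLE W ⊤ e).hom.toAlgebra
  have hp : (hW.primeIdealOf ⟨y, hy⟩).asIdeal =
      (hU.primeIdealOf ⟨z, trivial⟩).asIdeal.comap (algebraMap Γ(Y, W) Γ(Spec (Y.residueField y), ⊤)) := by
    have := congrArg PrimeSpectrum.asIdeal
      (IsAffineOpen.comap_primeIdealOf_appLE W hW ⊤ hU e (x := z) (f := h) trivial)
    refine Eq.trans ?_ this.symm
    congr 2
    exact Subtype.ext hz.symm
  have hv := van f hW d hd d le_rfl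
  have hfield : IsField Γ(Spec (Y.residueField y), ⊤) :=
    (Scheme.ΓSpecIso (Y.residueField y)).commRingCatIsoToRingEquiv.toMulEquiv.isField
      (Field.toIsField _)
  have hb := subsingleton_iff f hW hc hU e d
  have htop := (nonempty_top (f.fiberToSpecResidueField y ⁻¹ᵁ ⊤).ι
    (Scheme.Opens.opensRange_ι _) (O₁ _) d).some
  have hO := HHon_iff (W := (⊤ : (Spec (Y.residueField y)).Opens)) (f.fiberToSpecResidueField y) d
  rw [← htop.toEquiv.subsingleton_congr]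
  refine hO.trans (hb.trans ⟨fun H => ?_, fun H => ?_⟩)
  · exact zero_residueField_of_algebra _ _ hv _ H _ _ hp
  · exact zero_field_of_residueField _ _ hv _ hfield _ _ hp H

omit hW in
/-- A neighbourhood where the fibre dimension is bounded. -/
theorem exists_nhd [IsProper f] (d : ℕ) (y : Y) (hd : topologicalKrullDim ↥(f.fiber y) ≤ d) :
    ∃ V : Y.Opens, y ∈ V ∧ ∀ s ∈ V, topologicalKrullDim ↥(f.fiber s) ≤ d := by
  let K : Set X := {x | FlatMor.fibreDimAt f x ≤ (d : WithBot ℕ∞)}ᶜ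
  have hK : IsClosed K := (FibreDim.Semicont.isOpen_setOf_fibreDimAt_le f d).isClosed_compl
  refine ⟨⟨(f.base '' K)ᶜ, (f.isClosedMap _ hK).isOpen_compl⟩, ?_, fun s hs => ?_⟩
  · rintro ⟨x, hx, rfl⟩
    exact hx ((FibreDim.Basic.fibreDimAt_le_topologicalKrullDim f rfl).trans hd)
  · refine FibreDim.Basic.topologicalKrullDim_fiber_le f fun x hx => ?_
    by_contra hne
    exact hs ⟨x, hne, hx⟩

/-- The annihilator near a point. -/
theorem exists_annihilator [IsProper f] (d : ℕ) (hd : ∀ y ∈ W, topologicalKrullDim ↥(f.fiber y) ≤ d)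
    {y : Y} (hy : y ∈ W) (h : Subsingleton (Coh.HH (f.fiber y) (O₁ _) d)) :
    letI := ov f hW
    ∃ s : Γ(Y, W), y ∈ Y.basicOpen s ∧
      ∀ x : Coh.HH (f ⁻¹ᵁ W).toScheme (G (O₁ _) (ModuleCat.of Γ(Y, W) Γ(Y, W))) d, s • x = 0 := by
  letI := ov f hW
  haveI := isProper_ov f hW
  obtain ⟨s, hs, hs'⟩ := TopDegree.exists_annihilator Γ(Y, W) (O₁ _) d (van f hW d hd d le_rfl)
    (finite f hW d hd) (hW.primeIdealOf ⟨y, hy⟩).asIdeal ((fiber_iff f hW d hd hy).1 h)
  refine ⟨s, ?_, hs'⟩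
  have h1 : hW.primeIdealOf ⟨y, hy⟩ ∈ PrimeSpectrum.basicOpen s := hs
  rw [← hW.fromSpec_preimage_basicOpen] at h1
  have h2 : hW.fromSpec (hW.primeIdealOf ⟨y, hy⟩) ∈ Y.basicOpen s := h1
  rwa [hW.fromSpec_primeIdealOf] at h2

/-- If the top cohomology of all fibres vanishes, so does all top cohomology of the chart. -/
theorem zero_all [IsProper f] (d : ℕ) (hd : ∀ y ∈ W, topologicalKrullDim ↥(f.fiber y) ≤ d)
    (h : ∀ y ∈ W, Subsingleton (Coh.HH (f.fiber y) (O₁ _) d))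
    (M : ModuleCat.{u} Γ(Y, W)) :
    letI := ov f hW
    Zero Γ(Y, W) (O₁ (f ⁻¹ᵁ W).toScheme) d M := by
  letI := ov f hW
  haveI := isProper_ov f hW
  refine TopVanish.zero_all Γ(Y, W) (O₁ _) (van f hW d hd d le_rfl) (finite f hW d hd) (fun p hp => ?_) M
  obtain ⟨w, hw⟩ := hW.isoSpec.hom.surjective (⟨p, hp⟩ : PrimeSpectrum Γ(Y, W))
  have h0 := (fiber_iff f hW d hd w.2).1 (h w.1 w.2)
  rw [show (hW.primeIdealOf ⟨w.1, w.2⟩) = (⟨p, hp⟩ : PrimeSpectrum Γ(Y, W)) from hw] at h0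
  exact h0

end

end Groth.Agent.Lib.Amp36.Chart
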