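import Groth.Agent.Lib.Ideal.BlowUp
import Groth.Agent.Lib.BlowUpExists.Proper
import Groth.Agent.Lib.FibreVanish36.Affine
import Groth.Agent.Lib.FibreVanish36.Coherent
import Groth.Agent.S0356
import Groth.Prelude.Def_CurvBase

/-!
# Cohomology off the centre of a blow-up
-/

set_option autoImplicit false
set_option linter.style.haveILetI false
universe u

open CategoryTheory Limits AlgebraicGeometry TopologicalSpace

namespace Groth.Agent.Lib.Amp36.BlowUpCd

open Groth.Agent.Lib

/-- The complement of the centre. -/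
abbrev cpl {X : Scheme.{u}} (I : X.IdealSheafData) : X.Opens := I.support.compl

/-- The complement of an effective Cartier divisor is affinely embedded. -/
theorem isAffineHom_ι_compl {X : Scheme.{u}} {I : X.IdealSheafData} (hI : BlowUp.IsEffCartierIdeal I) :
    IsAffineHom (cpl I).ι := by
  refine isAffineHom_of_forall_exists_isAffineOpen _ fun x => ?_
  obtain ⟨U, hx, f, -, hf⟩ := hI x
  refine ⟨U.1, hx, U.2, ?_⟩
  have him : (cpl I).ι ''ᵁ ((cpl I).ι ⁻¹ᵁ U.1) = X.basicOpen f := by
    rw [Scheme.Hom.image_preimage_eq_opensRange_inf, Scheme.Opens.opensRange_ι]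
    refine TopologicalSpace.Opens.ext ?_
    have h := I.coe_support_inter U
    rw [hf, Scheme.zeroLocus_span, Scheme.zeroLocus_singleton] at h
    show (I.support : Set X)ᶜ ∩ (U.1 : Set X) = (X.basicOpen f : Set X)
    ext y
    constructor
    · rintro ⟨hy, hyU⟩
      by_contra hne
      exact hy (h.symm ▸ (show y ∈ (X.basicOpen f : Set X)ᶜ ∩ (U.1 : Set X) from ⟨hne, hyU⟩)).1
    · intro hy
      have hyU : y ∈ (U.1 : Set X) := X.basicOpen_le f hy
      refine ⟨fun hsupp => ?_, hyU⟩
      exact (h ▸ (show y ∈ (I.support : Set X) ∩ (U.1 : Set X) from ⟨hsupp, hyU⟩)).1 hy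
  rw [← Scheme.Hom.isAffineOpen_iff_of_isOpenImmersion (cpl I).ι, him]
  exact U.2.basicOpen f

theorem support_idealSheaf (A : Type u) [CommRing A] (I : Ideal A) :
    ((Curv2.idealSheaf A I).support : Set (Spec (CommRingCat.of A))) =
      PrimeSpectrum.zeroLocus (I : Set A) := by
  rw [Curv2.idealSheaf, Scheme.IdealSheafData.coe_support_ofIdealTop]
  ext x
  rw [Scheme.zeroLocus_def]
  simp only [Set.mem_iInter, Set.mem_compl_iff, PrimeSpectrum.mem_zeroLocus]
  constructor
  · intro h a ha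
    by_contra hx
    refine h ((Scheme.ΓSpecIso (CommRingCat.of A)).inv a) (Ideal.mem_map_of_mem _ ha) ?_
    show x ∈ (Spec (CommRingCat.of A)).basicOpen _
    rw [basicOpen_eq_of_affine]
    exact hx
  · intro h g hg hx
    obtain ⟨a, rfl⟩ := (Scheme.ΓSpecIso (CommRingCat.of A)).symm.commRingCatIsoToRingEquiv.surjective g
    obtain ⟨b, hb, e⟩ := (Ideal.mem_map_iff_of_surjective (Scheme.ΓSpecIso (CommRingCat.of A)).inv.hom
      (Scheme.ΓSpecIso (CommRingCat.of A)).symm.commRingCatIsoToRingEquiv.surjective).1 hg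
    have hba : b = a := (Scheme.ΓSpecIso (CommRingCat.of A)).symm.commRingCatIsoToRingEquiv.injective e
    subst hba
    have hx' : x ∈ PrimeSpectrum.basicOpen b := by
      rw [← basicOpen_eq_of_affine]
      exact hx
    exact hx' (h hb)

/-- No higher cohomology off the centre above the fibre dimension. -/
theorem subsingleton_HH_compl {X S : Scheme.{u}} [IsAffine S] [IsLocallyNoetherian S] (b : X ⟶ S)
    {𝓘 : S.IdealSheafData} (hb : BlowUp.IsBlowUp b 𝓘) (d : ℕ)
    (hd : ∀ s, topologicalKrullDim ↥(b.fiber s) ≤ d) (N : (cpl 𝓘).toScheme.Modules)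
    (hN : N.IsQuasicoherent) (p : ℕ) (hp : d ≤ p) :
    Subsingleton (Coh.HH (cpl 𝓘).toScheme N (p + 1)) := by
  haveI := hN
  haveI : IsProper b := BlowUpExists.isProper_of_isBlowUp hb fun U =>
    haveI := IsLocallyNoetherian.component_noetherian U
    IsNoetherian.noetherian _
  haveI : IsIso (b ∣_ cpl 𝓘) := Ideal.BlowUp.isIso_off_center hb
  have he : b ⁻¹ᵁ cpl 𝓘 = cpl (𝓘.comap b) := by
    refine TopologicalSpace.Opens.ext ?_
    show _ = ((𝓘.comap b).support : Set X)ᶜ
    rw [Scheme.IdealSheafData.support_comap]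
    rfl
  haveI : IsAffineHom (b ⁻¹ᵁ cpl 𝓘).ι := by
    rw [he]; exact isAffineHom_ι_compl hb.1
  let j := inv (b ∣_ cpl 𝓘) ≫ (b ⁻¹ᵁ cpl 𝓘).ι
  haveI : IsAffineHom j := inferInstance
  haveI : ((Coh.push j).obj N).IsQuasicoherent := QCoh.Pushforward.isQCoh_pushforward j
  haveI := FibreVanish36.Affine.subsingleton_HH FibreVanish36.Coherent.cohVanish b d hd
    ((Coh.push j).obj N) p hp
  exact (ZarCoh.Morph.affineEquiv j N (p + 1)).toEquiv.symm.subsingleton

end Groth.Agent.Lib.Amp36.BlowUpCd
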