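import Groth.Agent.Lib.Amp36.Chart

/-!
# Surjectivity of `O_Y ⟶ f_* O_X` and degree zero cohomology
-/

set_option autoImplicit false
set_option linter.style.haveILetI false
universe u

open CategoryTheory Limits AlgebraicGeometry Opposite TopologicalSpace

namespace Groth.Agent.Lib.Amp36.DegreeZero

open Groth.Agent.Lib Groth.Agent.Lib.FlatCxW.Watts ZarCoh.Exchange.Sections TopDegree TopVanish
open Groth.Agent.Lib.Amp36.Chart (O₁)

noncomputable section

section
variable (A : Type u) [CommRing A] {X : Scheme.{u}} [X.Over (Spec (CommRingCat.of A))]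

theorem hTerm (X : Scheme.{u}) : Nonempty (IsTerminal (⊤ : X.Opens)) :=
  ⟨IsTerminal.ofUniqueHom (fun W => homOfLE le_top) fun _ _ => Subsingleton.elim _ _⟩

/-- `H^0` is the global functions. -/
def h0 : Coh.HH X (O₁ X) 0 ≃+ Coh.Γtop X where
  toFun x := Sheaf.H.equiv₀ (Coh.toAb (O₁ X)) (hTerm X).some x
  invFun r := (Sheaf.H.equiv₀ (Coh.toAb (O₁ X)) (hTerm X).some).symm r
  left_inv x := (Sheaf.H.equiv₀ (Coh.toAb (O₁ X)) (hTerm X).some).symm_apply_apply x
  right_inv x := (Sheaf.H.equiv₀ (Coh.toAb (O₁ X)) (hTerm X).some).apply_symm_apply x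
  map_add' x y := (Sheaf.H.equiv₀ (Coh.toAb (O₁ X)) (hTerm X).some).map_add x y

theorem h0_natural (φ : Coh.toAb (O₁ X) ⟶ Coh.toAb (O₁ X)) (x : Coh.HH X (O₁ X) 0) :
    h0 (Sheaf.H.map φ 0 x : Coh.HH X (O₁ X) 0) = φ.hom.app (op ⊤) (h0 x) :=
  (Sheaf.H.equiv₀_naturality (hTerm X).some φ x).symm

theorem h0_smul (a : A) (x : Coh.HH X (O₁ X) 0) :
    h0 (a • x) = Coh.toGlobal (X ↘ Spec (CommRingCat.of A)) a * h0 x := by
  refine (h0_natural (Coh.smulAb (O₁ X) (Coh.toGlobal (X ↘ Spec (CommRingCat.of A)) a)) x).trans ?_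
  show Coh.resTop X (op ⊤) _ * h0 x = _
  congr 1
  exact ConcreteCategory.congr_hom (X.ringCatSheaf.obj.map_id (op ⊤)) _

/-- A surjection from the base gives a generator. -/
theorem exists_generator (h : Function.Surjective (Coh.toGlobal (X ↘ Spec (CommRingCat.of A)))) :
    ∃ e : Coh.HH X (O₁ X) 0, ∀ x, ∃ a : A, x = a • e := by
  refine ⟨h0.symm (1 : Coh.Γtop X), fun x => ?_⟩
  obtain ⟨a, ha⟩ := h (h0 x)
  refine ⟨a, h0.injective ?_⟩
  rw [h0_smul, AddEquiv.apply_symm_apply]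
  exact ha.symm.trans (mul_one _).symm

/-- A generator gives a surjection from the base. -/
theorem surjective_of_generator (e : Coh.HH X (O₁ X) 0) (h : ∀ x, ∃ a : A, x = a • e) :
    Function.Surjective (Coh.toGlobal (X ↘ Spec (CommRingCat.of A))) := by
  let φ := Coh.toGlobal (X ↘ Spec (CommRingCat.of A))
  let E : Coh.Γtop X := h0 e
  have key : ∀ c : Coh.Γtop X, ∃ a : A, c = φ a * E := fun c => by
    obtain ⟨a, ha⟩ := h (h0.symm c)
    refine ⟨a, ?_⟩
    rw [← h0_smul, ← ha, AddEquiv.apply_symm_apply]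
  obtain ⟨a, ha⟩ := key 1
  obtain ⟨b, hb⟩ := key (E * E)
  have hE : E = φ b := by
    calc E = φ a * E * E := by rw [← ha, one_mul]
      _ = φ a * (φ b * E) := by rw [mul_assoc, hb]
      _ = φ b * (φ a * E) := by rw [← mul_assoc, ← map_mul, mul_comm a b, map_mul, mul_assoc]
      _ = φ b := by rw [← ha, mul_one]
  intro c
  obtain ⟨a', rfl⟩ := key c
  exact ⟨a' * b, by rw [hE]; exact map_mul φ a' b⟩

end

variable {X Y : Scheme.{u}} (f : X ⟶ Y) {W : Y.Opens} (hW : IsAffineOpen W)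

include hW in
/-- Surjectivity on sections, on the chart. -/
theorem surjective_toGlobal_iff :
    Function.Surjective (Coh.toGlobal (Chart.π f hW)) ↔ Function.Surjective (f.app W) := by
  have h1 : Function.Surjective (Coh.toGlobal (Chart.π f hW)) ↔
      Function.Surjective (f ∣_ W).appTop := by
    let σ : Γ(Y, W) ≃ Γ(W.toScheme, ⊤) :=
      ((Scheme.ΓSpecIso (CommRingCat.of Γ(Y, W))).symm.trans
        (Scheme.Γ.mapIso hW.isoSpec.op)).commRingCatIsoToRingEquiv.toEquiv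
    have : ⇑(Coh.toGlobal (Chart.π f hW)) = ⇑(f ∣_ W).appTop ∘ ⇑σ := by
      funext a
      show (f ∣_ W ≫ hW.isoSpec.hom).appTop ((Scheme.ΓSpecIso _).inv a) = _
      rw [Scheme.Hom.comp_appTop]
      rfl
    rw [this]
    exact ⟨fun h => h.of_comp, fun h => h.comp σ.surjective⟩
  rw [h1, morphismRestrict_appTop]
  have h2 : Function.Surjective (f.app (W.ι ''ᵁ ⊤)) ↔ Function.Surjective (f.app W) := by
    have h : ∀ V : Y.Opens, V = W →
        (Function.Surjective (f.app V) ↔ Function.Surjective (f.app W)) := by rintro V rfl; rfl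
    exact h _ W.ι_image_top
  rw [← h2]
  let τ := (X.presheaf.mapIso
    (eqToIso (image_morphismRestrict_preimage f W ⊤)).op).commRingCatIsoToRingEquiv.toEquiv
  show Function.Surjective (⇑τ ∘ ⇑(f.app (W.ι ''ᵁ ⊤))) ↔ _
  exact ⟨fun h => h.of_comp_left τ.injective, fun h => τ.surjective.comp h⟩

section
variable {A A' : Type u} [CommRing A] [CommRing A'] [Algebra A A'] {X X' : Scheme.{u}}
  [X.Over (Spec (CommRingCat.of A))] [X'.Over (Spec (CommRingCat.of A'))]
  [QuasiCompact (X ↘ Spec (CommRingCat.of A))] [IsSeparated (X ↘ Spec (CommRingCat.of A))]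

theorem natGen {C : Type*} [Category C] {F₁ F₂ : C ⥤ AddCommGrpCat.{u}} (b : F₁ ≅ F₂) {N N' : C}
    (g : N ⟶ N') (z : F₁.obj N) : (b.hom.app N') (F₁.map g z) = F₂.map g (b.hom.app N z) :=
  ConcreteCategory.congr_hom (b.hom.naturality g) z

omit [QuasiCompact (X ↘ Spec (CommRingCat.of A))] [IsSeparated (X ↘ Spec (CommRingCat.of A))] in
/-- A natural isomorphism commutes with the endomorphisms. -/
theorem natural_smul (F : X.Modules) (M : X'.Modules)
    (b : CohIII.tensorAFunctor A' M ⋙ CohIII.HAb X' 0 ≅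
      ZarCoh.Exchange.ExtScalars.res (A := A) (B := A') ⋙ CohIII.tensorAFunctor A F ⋙ CohIII.HAb X 0)
    (N : ModuleCat.{u} A') (g : N ⟶ N) (z : Coh.HH X' (G M N) 0) :
    (b.hom.app N) (HT A' M 0 g z) =
      HT A F 0 ((ZarCoh.Exchange.ExtScalars.res (A := A)).map g) (b.hom.app N z) := by
  refine (natGen b g z).trans ?_
  rw [Functor.comp_map, Functor.comp_map]
  rfl

/-- A generator for the base. -/
theorem span_of_generator (F : X.Modules) [F.IsQuasicoherent] (M : X'.Modules)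
    (hs : ∀ {L N : ModuleCat.{u} A} (g : L ⟶ N), Epi g → Function.Surjective (HT A F 0 g))
    (b : CohIII.tensorAFunctor A' M ⋙ CohIII.HAb X' 0 ≅
      ZarCoh.Exchange.ExtScalars.res (A := A) (B := A') ⋙ CohIII.tensorAFunctor A F ⋙ CohIII.HAb X 0)
    (c : Coh.HH X (G F (ModuleCat.of A A)) 0) (hc : ∀ x, ∃ a : A, x = a • c) :
    ∃ z₀ : Coh.HH X' (G M (ModuleCat.of A' A')) 0, ∀ z, ∃ r : A', r • z₀ = z := by
  let N : ModuleCat.{u} A' := ModuleCat.of A' A'
  let rs := ZarCoh.Exchange.ExtScalars.res (A := A) (B := A')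
  let R' : ModuleCat.{u} A := rs.obj N
  let toR : A' → R' := fun t => t
  let E : Coh.HH X' (G M N) 0 ≃+ Coh.HH X (G F R') 0 := (b.app N).addCommGroupIsoToAddEquiv
  let z₀ : Coh.HH X' (G M N) 0 := E.symm (HT A F 0 (θ R' (toR 1)) c)
  have hlin : ∀ (t : A'), E (t • z₀) = HT A F 0 (rs.map (t • 𝟙 N)) (E z₀) := fun t => by
    rw [← HT_smul A' M 0 t z₀]
    exact natural_smul F M b N (t • 𝟙 N) z₀
  have hone : ∀ t : A', HT A F 0 (θ R' (toR t)) c = E (t • z₀) := fun t => by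
    rw [hlin, AddEquiv.apply_symm_apply, ← HT_comp]
    congr 2
    refine ModuleCat.hom_ext (LinearMap.ext fun a => ?_)
    show algebraMap A A' a * t = t * (algebraMap A A' a * 1)
    rw [mul_one, mul_comm]
  have hmem : ∀ z : Coh.HH X' (G M N) 0, z ∈ Submodule.span A' {z₀} := fun z => by
    obtain ⟨n, m, x, hw⟩ := exists_sum A F 0 (fun g hg => hs g hg) (E z)
    have hz' : z = ∑ k, E.symm (HT A F 0 (θ R' (m k)) (x k)) := by
      rw [← map_sum, ← hw, AddEquiv.symm_apply_apply]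
    rw [hz']
    refine Submodule.sum_mem _ fun k _ => ?_
    obtain ⟨a, ha⟩ := hc (x k)
    have : HT A F 0 (θ R' (m k)) (x k) =
        HT A F 0 (θ R' (toR (algebraMap A A' a * (show A' from m k)))) c := by
      rw [ha, ← HT_smul, ← HT_comp]
      congr 2
      refine ModuleCat.hom_ext (LinearMap.ext fun t => ?_)
      show algebraMap A A' (a * t) * (show A' from m k) =
        algebraMap A A' t * (algebraMap A A' a * (show A' from m k))
      rw [map_mul, mul_assoc, mul_left_comm]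
    rw [this, hone, AddEquiv.symm_apply_apply]
    exact Submodule.smul_mem _ _ (Submodule.mem_span_singleton_self z₀)
  exact ⟨z₀, fun z => Submodule.mem_span_singleton.1 (hmem z)⟩

end

include hW in
/-- The base change of a surjection is surjective, on small affines. -/
theorem surjective_app [IsProper f] (hd : ∀ y ∈ W, topologicalKrullDim ↥(f.fiber y) ≤ ((1 : ℕ) : WithBot ℕ∞))
    (hH : ∀ y ∈ W, Subsingleton (Coh.HH (f.fiber y) (O₁ _) 1))
    (hs : Function.Surjective (f.app W)) {X' Y' : Scheme.{u}} {f' : X' ⟶ Y'} {g' : X' ⟶ X}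
    {g : Y' ⟶ Y} (hc : IsPullback g' f' f g) {U : Y'.Opens} (hU : IsAffineOpen U)
    (e : U ≤ g ⁻¹ᵁ W) : Function.Surjective (f'.app U) := by
  letI := Chart.ov f hW
  letI := Chart.ov f' hU
  letI : Algebra Γ(Y, W) Γ(Y', U) := (g.appLE W U e).hom.toAlgebra
  haveI := Chart.isProper_ov f hW
  obtain ⟨M, i, ⟨b⟩⟩ := Chart.nonempty_natIso f hW hc hU e 0
  obtain ⟨c, hgen⟩ := exists_generator Γ(Y, W) ((surjective_toGlobal_iff f hW).2 hs)
  let o := Curves.LES.isoK Γ(Y, W) (ZarCoh.Exchange.Main.oneIso Γ(Y, W) (O₁ (f ⁻¹ᵁ W).toScheme)) 0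
  have hv : Van (f ⁻¹ᵁ W).toScheme (0 + 2) := Chart.van f hW 1 hd 1 le_rfl
  have hz : ∀ M, Zero Γ(Y, W) (O₁ (f ⁻¹ᵁ W).toScheme) (0 + 1) M := Chart.zero_all f hW 1 hd hH
  obtain ⟨z₀, hz₀⟩ := span_of_generator (O₁ (f ⁻¹ᵁ W).toScheme) M
    (fun g hg => HT_surjective' Γ(Y, W) _ hv hz g) b (o.symm c) (fun x => by
      obtain ⟨a, ha⟩ := hgen (o x)
      exact ⟨a, by rw [← map_smul, ← ha, LinearEquiv.symm_apply_apply]⟩)
  let o' := Curves.LES.isoK Γ(Y', U) ((ZarCoh.Exchange.Main.oneIso Γ(Y', U) M) ≪≫ i) 0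
  refine (surjective_toGlobal_iff f' hU).1 (surjective_of_generator Γ(Y', U) (o' z₀) fun x => ?_)
  obtain ⟨r, hr⟩ := hz₀ (o'.symm x)
  exact ⟨r, by rw [← map_smul, hr, LinearEquiv.apply_symm_apply]⟩

end

end Groth.Agent.Lib.Amp36.DegreeZero
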