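import Groth.Agent.Lib.HomSheaf.Basic
import Groth.Agent.Lib.Exchange.GlobalSections
import Groth.Agent.Lib.RefHull.LocFree
import Groth.Agent.Lib.Perfect.Coherent
import Mathlib.LinearAlgebra.Contraction

/-!
# `Hom(E, f^* M~ ⊗ F)` for finite locally free `E` is corepresentable
-/

set_option autoImplicit false
set_option linter.style.haveILetI false
universe u

open CategoryTheory Limits AlgebraicGeometry TopologicalSpace Opposite
open scoped TensorProduct

namespace Groth.Agent.Lib.Amp36.HomTensor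

open Groth.Agent.Lib
open Groth.Agent.Lib.TensorMod.Basic (tmap)
open Groth.Agent.Lib.HomSheaf.Basic

noncomputable section

variable {X : Scheme.{u}} [IsLocallyNoetherian X] {E F : X.Modules}

theorem isIso_tens_of_finLocFree (hE : FlatMod.IsFinLocFree E) (L : X.Modules) :
    IsIso (tens E F L) := by
  have hEc := Perfect.Coherent.isCoh_of_isFinLocFree hE
  refine (Modules.StalkModule.isIso_iff_stalkMapₗ_bijective _).2 fun x => ?_
  haveI := RefHull.LocFree.free_stalk hE x
  haveI := RefHull.LocFree.finite_stalk hEc x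
  have hev := fun G => RefHull.HomSh.evalStalk_bijective (F := E) (G := G) hEc x
  let ev := LinearEquiv.ofBijective _ (hev F)
  let e : (CohB1.tensorMod (_root_.RefHull.homSh E F) L).presheaf.stalk x ≃ₗ[X.presheaf.stalk x]
      (E.presheaf.stalk x →ₗ[X.presheaf.stalk x] (CohB1.tensorMod F L).presheaf.stalk x) :=
    RefHull.Tensor.tStalk _ _ x ≪≫ₗ TensorProduct.congr ev (LinearEquiv.refl _ _) ≪≫ₗ
      rTensorHomEquivHomRTensor _ _ _ _ ≪≫ₗ
        LinearEquiv.congrRight (RefHull.Tensor.tStalk F L x).symm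
  have key : (_root_.RefHull.evalStalk E (CohB1.tensorMod F L) x).comp
      (_root_.RefHull.stalkMapₗ (tens E F L) x) = e.toLinearMap := by
    refine stalk_ext_pair fun v w => ?_
    rw [LinearMap.comp_apply, evalStalk_tens]
    refine LinearMap.ext fun m => ?_
    simp [e, ev, RefHull.Tensor.pair_apply, rTensorHomEquivHomRTensor_apply,
      TensorProduct.rTensorHomToHomRTensor_apply]
    rfl
  refine (Function.Bijective.of_comp_iff' (hev _) _).1 ?_
  exact (congrArg DFunLike.coe key :).symm.subst (motive := Function.Bijective) e.bijective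

/-- The twist `H ⊗ P ⟶ 𝓗om(E, P ⊗ F)` on global sections. -/
def θ (E F P : X.Modules) (t : Γ(CohB1.tensorMod P (_root_.RefHull.homSh E F), ⊤)) :
    E ⟶ CohB1.tensorMod P F :=
  topEquiv.symm ((tens E F P).app ⊤
      ((TensorMod.Basic.comm P (_root_.RefHull.homSh E F)).hom.app ⊤ t)) ≫
    (TensorMod.Basic.comm F P).hom

theorem θ_bijective (hE : FlatMod.IsFinLocFree E) (P : X.Modules) : Function.Bijective (θ E F P) := by
  haveI := isIso_tens_of_finLocFree (F := F) hE P
  refine Function.Bijective.comp (g := fun a : E ⟶ CohB1.tensorMod F P =>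
    a ≫ (TensorMod.Basic.comm F P).hom) ?_ (topEquiv.symm.bijective.comp
      (Function.Bijective.comp ?_ ?_))
  · exact ⟨fun a b h => (cancel_mono _).1 h,
      fun b => ⟨b ≫ (TensorMod.Basic.comm F P).inv, by simp⟩⟩
  · exact (Modules.Stalk.isIso_iff_app_bijective _).1 inferInstance ⊤
  · exact (Modules.Stalk.isIso_iff_app_bijective _).1 inferInstance ⊤

omit [IsLocallyNoetherian X] in
theorem stalkMap_topEquiv_symm {M N : X.Modules} (g : Γ(_root_.RefHull.homSh M N, ⊤)) (x : X) :
    _root_.RefHull.stalkMapₗ (topEquiv.symm g) x = g.1 ⟨x, Opens.mem_top x⟩ :=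
  RefHull.Colim.stalkMap_toHom g x

theorem θ_natural (hE : FlatMod.IsFinLocFree E) {P P' : X.Modules} (p : P ⟶ P')
    (t : Γ(CohB1.tensorMod P (_root_.RefHull.homSh E F), ⊤)) :
    θ E F P' ((tmap p (𝟙 _)).app ⊤ t) = θ E F P t ≫ tmap p (𝟙 F) := by
  have hEc := Perfect.Coherent.isCoh_of_isFinLocFree hE
  have hc : ∀ (A : X.Modules), (TensorMod.Basic.comm A P).hom ≫ tmap p (𝟙 A) =
      tmap (𝟙 A) p ≫ (TensorMod.Basic.comm A P').hom := fun A =>
    (TensorMod.Basic.comm_natural _ _).symm
  have hc' : ∀ (A : X.Modules), tmap p (𝟙 A) ≫ (TensorMod.Basic.comm P' A).hom =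
      (TensorMod.Basic.comm P A).hom ≫ tmap (𝟙 A) p := fun A =>
    TensorMod.Basic.comm_natural _ _
  unfold θ
  rw [Category.assoc, hc, ← Category.assoc]
  refine congrArg (· ≫ _) ?_
  set s := (TensorMod.Basic.comm P (_root_.RefHull.homSh E F)).hom.app ⊤ t
  have hs : (TensorMod.Basic.comm P' (_root_.RefHull.homSh E F)).hom.app ⊤ ((tmap p (𝟙 _)).app ⊤ t) =
      (tmap (𝟙 _) p).app ⊤ s :=
    congrArg (fun φ : CohB1.tensorMod P (_root_.RefHull.homSh E F) ⟶ _ => φ.app ⊤ t) (hc' _)
  rw [hs]
  refine Modules.StalkModule.hom_ext_stalkMapₗ fun x => LinearMap.ext fun m => ?_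
  refine Eq.trans ?_ (RefHull.Colim.stalkMap_comp _ _ x m).symm
  show _root_.RefHull.stalkMapₗ _ x m = _root_.RefHull.stalkMapₗ _ x (_root_.RefHull.stalkMapₗ _ x m)
  rw [stalkMap_topEquiv_symm, stalkMap_topEquiv_symm]
  have key : ((_root_.RefHull.evalStalk E (CohB1.tensorMod F P') x).comp
        (_root_.RefHull.stalkMapₗ (tens E F P') x)).comp
        (_root_.RefHull.stalkMapₗ (tmap (𝟙 (_root_.RefHull.homSh E F)) p) x) =
      ((_root_.RefHull.stalkMapₗ (tmap (𝟙 F) p) x).compRight (X.presheaf.stalk x)).comp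
        ((_root_.RefHull.evalStalk E (CohB1.tensorMod F P) x).comp
          (_root_.RefHull.stalkMapₗ (tens E F P) x)) := by
    refine stalk_ext_pair fun v w => LinearMap.ext fun m => ?_
    simp only [LinearMap.comp_apply, LinearMap.compRight_apply, stalkMap_tmap, evalStalk_tens,
      LinearMap.flip_apply]
    rw [show _root_.RefHull.stalkMapₗ (𝟙 (_root_.RefHull.homSh E F)) x v = v from
        LinearMap.congr_fun (Modules.StalkModule.stalkMapₗ_id x) v,
      show ∀ a, _root_.RefHull.stalkMapₗ (𝟙 F) x a = a from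
        LinearMap.congr_fun (Modules.StalkModule.stalkMapₗ_id x)]
  have := LinearMap.congr_fun (LinearMap.congr_fun key
    ((CohB1.tensorMod (_root_.RefHull.homSh E F) P).presheaf.germ ⊤ x (Opens.mem_top x) s)) m
  simp only [LinearMap.comp_apply, LinearMap.compRight_apply, _root_.RefHull.stalkMapₗ_germ,
    _root_.RefHull.evalStalk_germ] at this
  exact this

omit [IsLocallyNoetherian X] in
theorem θ_add (E F P : X.Modules) (t t' : Γ(CohB1.tensorMod P (_root_.RefHull.homSh E F), ⊤)) :
    θ E F P (t + t') = θ E F P t + θ E F P t' := by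
  unfold θ
  rw [map_add, map_add, ← Preadditive.add_comp]
  refine congrArg (· ≫ _) (Modules.StalkModule.hom_ext_stalkMapₗ fun x => ?_)
  refine ((stalkMap_topEquiv_symm _ x).trans ?_).trans (Modules.StalkModule.stalkMapₗ_add _ _ x).symm
  exact (congrArg₂ (· + ·) (stalkMap_topEquiv_symm _ x) (stalkMap_topEquiv_symm _ x)).symm

theorem isFlatOver_homSh {S : Scheme.{u}} (f : X ⟶ S) (hE : FlatMod.IsFinLocFree E)
    (hF : FlatMod.IsFlatOver f F) : FlatMod.IsFlatOver f (_root_.RefHull.homSh E F) := by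
  intro x
  have hEc := Perfect.Coherent.isCoh_of_isFinLocFree hE
  haveI := RefHull.LocFree.free_stalk hE x
  haveI := RefHull.LocFree.finite_stalk hEc x
  let R := S.presheaf.stalk (f.base x)
  let O := X.presheaf.stalk x
  letI : Algebra R O := (f.stalkMap x).hom.toAlgebra
  letI : Module R (F.presheaf.stalk x) := FlatMod.moduleStalkOver f F x
  letI : Module R ((_root_.RefHull.homSh E F).presheaf.stalk x) :=
    FlatMod.moduleStalkOver f (_root_.RefHull.homSh E F) x
  haveI : IsScalarTower R O (F.presheaf.stalk x) := IsScalarTower.of_algebraMap_smul fun _ _ => rfl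
  haveI : IsScalarTower R O ((_root_.RefHull.homSh E F).presheaf.stalk x) :=
    IsScalarTower.of_algebraMap_smul fun _ _ => rfl
  let b := Module.Free.chooseBasis O (E.presheaf.stalk x)
  haveI : Module.Flat R (F.presheaf.stalk x) := hF x
  let ψ := LinearEquiv.ofBijective _ (RefHull.HomSh.evalStalk_bijective (F := E) (G := F) hEc x) ≪≫ₗ
    (b.constr O).symm
  show Module.Flat R ((_root_.RefHull.homSh E F).presheaf.stalk x)
  classical
  haveI : Module.Flat R (Module.Free.ChooseBasisIndex O (E.presheaf.stalk x) → F.presheaf.stalk x) :=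
    Module.Flat.of_linearEquiv (DFinsupp.linearEquivFunOnFintype (R := R)
      (M := fun _ : Module.Free.ChooseBasisIndex O (E.presheaf.stalk x) => F.presheaf.stalk x)).symm
  exact Module.Flat.of_linearEquiv (ψ.restrictScalars R)

section Corep

variable (A : Type u) [CommRing A] [IsNoetherianRing A] {X : Scheme.{u}}
  [X.Over (Spec (CommRingCat.of A))] [IsProper (X ↘ Spec (CommRingCat.of A))]

/-- `M ↦ Hom(E, f^* M~ ⊗ F)` is corepresented by a finite module. -/
theorem exists_corep_hom (E F : X.Modules) (hE : FlatMod.IsFinLocFree E) (hF : Coh.IsCoh F)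
    (hfl : FlatMod.IsFlatOver (X ↘ Spec (CommRingCat.of A)) F) :
    ∃ Q : ModuleCat.{u} A, Module.Finite A Q ∧
      Nonempty (CohIII.tensorAFunctor A F ⋙ preadditiveCoyoneda.obj (op E) ≅
        (linearCoyoneda A (ModuleCat.{u} A)).obj (op Q) ⋙ forget₂ (ModuleCat.{u} A) AddCommGrpCat.{u}) := by
  haveI : IsLocallyNoetherian X :=
    LocallyOfFiniteType.isLocallyNoetherian (X ↘ Spec (CommRingCat.of A))
  let H := _root_.RefHull.homSh E F
  obtain ⟨Q, hQ, ⟨r⟩⟩ := ZarCoh.Exchange.GlobalSections.exists_corep A H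
    (RefHull.HomSh.isCoh_homSh (Perfect.Coherent.isCoh_of_isFinLocFree hE) hF)
    (isFlatOver_homSh _ hE hfl)
  let η : (CohIII.tensorAFunctor A H ⋙ CohIII.globalSectionsA A) ⋙
      forget₂ (ModuleCat.{u} A) AddCommGrpCat.{u} ≅
        CohIII.tensorAFunctor A F ⋙ preadditiveCoyoneda.obj (op E) :=
    Functor.isoWhiskerRight (Functor.isoWhiskerLeft (CohIII.tensorAFunctor A H)
        (ZarCoh.Exchange.GlobalSections.globalIso A).symm) _ ≪≫
      NatIso.ofComponents (fun M => AddEquiv.toAddCommGrpIso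
          { Equiv.ofBijective _ (θ_bijective (F := F) hE
              ((Scheme.Modules.pullback (X ↘ Spec (CommRingCat.of A))).obj
                ((tilde.functor (CommRingCat.of A)).obj M))) with
            map_add' := θ_add E F _ })
        (fun {M N} g => by
          ext t
          exact θ_natural hE ((Scheme.Modules.pullback (X ↘ Spec (CommRingCat.of A))).map
            ((tilde.functor (CommRingCat.of A)).map g)) t)
  exact ⟨Q, hQ, ⟨η.symm ≪≫ Functor.isoWhiskerRight r _⟩⟩

end Corep

end

end Groth.Agent.Lib.Amp36.HomTensor
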