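import Groth.Agent.Lib.Amp36.TopVanish
import Groth.Agent.Lib.FibreVanish36.Affine
import Groth.Agent.Lib.FibreVanish36.Coherent
import Groth.Agent.Lib.Flat55.DimIneqFibre
import Groth.Agent.Lib.Amp36.Chart
import Groth.Agent.Lib.Snapper.Twist

/-!
# Modifications of two-dimensional rings have fibres of dimension at most one
-/

set_option autoImplicit false
set_option linter.style.haveILetI false
universe u

open CategoryTheory Limits AlgebraicGeometry

namespace Groth.Agent.Lib.Amp36.ModifVanish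

open Groth.Agent.Lib

noncomputable section

/-- A birational morphism to a Noetherian scheme of dimension two has fibres of dimension one. -/
theorem fiber_dim_le_one {X Y : Scheme.{u}} (f : X ⟶ Y) [LocallyOfFiniteType f] [IsLocallyNoetherian Y]
    [IsIntegral X] (hY : topologicalKrullDim Y ≤ 2)
    (hbir : ∃ U : Y.Opens, ((f ⁻¹ᵁ U : X.Opens) : Set X).Nonempty ∧ IsIso (f ∣_ U)) (y : Y) :
    topologicalKrullDim ↥(f.fiber y) ≤ ((1 : ℕ) : WithBot ℕ∞) := by
  obtain ⟨U, ⟨a, ha⟩, hU⟩ := hbir
  haveI := hU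
  have hη : genericPoint X ∈ f ⁻¹ᵁ U :=
    (genericPoint_specializes a).mem_open (f ⁻¹ᵁ U).2 ha
  refine FibreDim.Basic.topologicalKrullDim_fiber_le f fun x hx => ?_
  haveI : IsNoetherianRing (Y.presheaf.stalk (f.base x)) := inferInstance
  obtain ⟨ξ, hξx, hcomp, h⟩ := Flat55.DimIneqFibre.fibreDimAt_add_one_le f x
  have hξ : ξ = genericPoint X := by
    have h1 : (closure {ξ} : Set X) = Set.univ := by
      rw [irreducibleComponents_eq_singleton] at hcomp
      exact hcomp
    exact IsGenericPoint.eq h1 (genericPoint_spec X)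
  subst hξ
  have h0 : FlatMor.fibreDimAt f (genericPoint X) ≤ 0 := by
    refine (FibreDim.Basic.fibreDimAt_le_topologicalKrullDim f rfl).trans ?_
    rw [FibreDim.Basic.topologicalKrullDim_fiber]
    have hss : Set.Subsingleton (f.base ⁻¹' {f.base (genericPoint X)}) := fun p hp q hq => by
      have hfη : f (genericPoint X) ∈ U := hη
      have hpU : p ∈ f ⁻¹ᵁ U := show f p ∈ U by rw [show f p = f (genericPoint X) from hp]; exact hfη
      have hqU : q ∈ f ⁻¹ᵁ U := show f q ∈ U by rw [show f q = f (genericPoint X) from hq]; exact hfη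
      have he : (f ∣_ U) ⟨p, hpU⟩ = (f ∣_ U) ⟨q, hqU⟩ := Subtype.ext <| by
        refine (morphismRestrict_base_coe f U _).trans (Eq.trans ?_ (morphismRestrict_base_coe f U _).symm)
        exact (show f p = f (genericPoint X) from hp).trans (show f q = f (genericPoint X) from hq).symm
      exact congrArg Subtype.val ((asIso (f ∣_ U)).hom.homeomorph.injective he)
    haveI := hss.coe_sort
    exact topologicalKrullDim_zero_of_discreteTopology _
  rcases h with ⟨-, h⟩ | h
  · exact h ▸ h0.trans (by norm_num)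
  · obtain ⟨e, he⟩ := FibreDim.Chart.exists_fibreDimAt_eq f x
    have h2 := h.trans (add_le_add h0 ((Cyc.TorPD.ringKrullDim_stalk_le _).trans hY))
    rw [he, zero_add] at h2
    rw [he]
    have : e + 1 ≤ 2 := by exact_mod_cast h2
    exact_mod_cast (by omega : e ≤ 1)

variable (A : Type u) [CommRing A] [IsNoetherianRing A] {X : Scheme.{u}}
  (f : X ⟶ Spec (CommRingCat.of A)) [IsProper f] [IsIntegral X]

theorem fiber_dim_le_one_spec (hdim : ringKrullDim A = 2)
    (hbir : ∃ U : (Spec (CommRingCat.of A)).Opens,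
      (U : Set (Spec (CommRingCat.of A))).Nonempty ∧ IsIso (f ∣_ U)) (y : Spec (CommRingCat.of A)) :
    topologicalKrullDim ↥(f.fiber y) ≤ ((1 : ℕ) : WithBot ℕ∞) := by
  refine fiber_dim_le_one f ((PrimeSpectrum.topologicalKrullDim_eq_ringKrullDim A).trans hdim).le ?_ y
  obtain ⟨U, ⟨b, hb⟩, hU⟩ := hbir
  haveI := hU
  exact ⟨U, ⟨((inv (f ∣_ U)) ⟨b, hb⟩).1, ((inv (f ∣_ U)) ⟨b, hb⟩).2⟩, hU⟩

open Groth.Agent.Lib.FlatCxW.Watts ZarCoh.Exchange.Sections TopDegree in
omit [IsNoetherianRing A] [IsIntegral X] in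
/-- Globally generated modules have no `H¹` when `O` has none and the fibres are curves. -/
theorem subsingleton_H1 (hd : ∀ y, topologicalKrullDim ↥(f.fiber y) ≤ ((1 : ℕ) : WithBot ℕ∞))
    (h1 : Subsingleton (Coh.HH X (Coh.structureModule X) 1)) (F : X.Modules) (hF : Coh.IsQCoh F)
    (ι : Type u) (e : (∐ fun _ : ι => Coh.structureModule X) ⟶ F) [Epi e] :
    Subsingleton (Coh.HH X F 1) := by
  letI : X.Over (Spec (CommRingCat.of A)) := ⟨f⟩
  haveI : IsProper (X ↘ Spec (CommRingCat.of A)) := ‹IsProper f›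
  haveI : (Coh.structureModule X).IsQuasicoherent := (Snapper.Twist.isCoh_structureModule X).1
  haveI : F.IsQuasicoherent := hF
  let O := Coh.structureModule X
  let T := CohIII.tensorAFunctor A O
  haveI : PreservesColimitsOfSize.{u, u} T := preservesColimits_tensorA A O
  let M : ModuleCat.{u} A := ∐ fun _ : ι => ModuleCat.of A A
  let i : T.obj M ≅ ∐ fun _ : ι => O :=
    PreservesCoproduct.iso T (fun _ : ι => ModuleCat.of A A) ≪≫
      Sigma.mapIso (fun _ => ZarCoh.Exchange.Main.oneIso A O)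
  have hv : Van X (1 + 1) := fun N hN =>
    haveI := hN
    FibreVanish36.Affine.subsingleton_HH FibreVanish36.Coherent.cohVanish f 1 hd N 1 le_rfl
  haveI : Subsingleton (Coh.HH X (T.obj M) 1) := by
    haveI : Subsingleton (Coh.HH X (G O (ModuleCat.of A A)) 1) :=
      (Curves.LES.isoK A (ZarCoh.Exchange.Main.oneIso A O) 1).toEquiv.subsingleton
    refine subsingleton_of_forall_eq 0 fun z => ?_
    obtain ⟨n, m, x, hx⟩ := exists_sum A O 1 (fun g _ => HT_surjective A O 1 hv g) z
    rw [hx]
    exact Finset.sum_eq_zero fun k _ => by rw [Subsingleton.elim (x k) 0, map_zero]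
  haveI : Epi (i.hom ≫ e) := epi_comp _ _
  exact (FibreVanish36.Finite.hm_surjective (i.hom ≫ e) 1 (hv _
    (haveI := isQCoh_G A O M; QCoh.Closure.isQCoh_kernel _))).subsingleton

end

end Groth.Agent.Lib.Amp36.ModifVanish
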