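import Groth.Agent.Lib.Exchange.Main
import Groth.Agent.Lib.FibreVanish36.Finite
import Groth.Agent.Lib.TensorMod.Colimit
import Groth.Agent.Lib.FlatCxW.Watts
import Groth.Agent.Lib.QCoh.Closure
import Mathlib.RingTheory.Nakayama
import Mathlib.RingTheory.Finiteness.Basic
import Mathlib.RingTheory.Localization.AtPrime.Basic

/-!
# Top degree cohomology of `f^* M~ ⊗ F` over an affine base

No Noetherian or flatness hypotheses: in a degree above which quasi-coherent cohomology vanishes,
`M ↦ H^d(X, f^* M~ ⊗ F)` is generated by `H^d(X, F)` and killed by what kills it.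
-/

set_option autoImplicit false
set_option linter.style.haveILetI false
universe u

open CategoryTheory Limits AlgebraicGeometry TopologicalSpace
open scoped TensorProduct

namespace Groth.Agent.Lib.Amp36.TopDegree

open Groth.Agent.Lib Groth.Agent.Lib.FlatCxW.Watts ZarCoh.Exchange.Sections ZarCoh.Exchange.Complex

noncomputable section

variable (A : Type u) [CommRing A] {X : Scheme.{u}} [X.Over (Spec (CommRingCat.of A))]

local notation "pX" => (X ↘ Spec (CommRingCat.of A))

/-- No quasi-coherent cohomology in degree `n`. -/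
def Van (X : Scheme.{u}) (n : ℕ) : Prop :=
  ∀ N : X.Modules, N.IsQuasicoherent → Subsingleton (Coh.HH X N n)

variable (F : X.Modules) [F.IsQuasicoherent]

instance isQCoh_G (M : ModuleCat.{u} A) : (G F M).IsQuasicoherent :=
  haveI : ((tilde.functor (CommRingCat.of A)).obj M).IsQuasicoherent := by
    dsimp [tilde.functor]; infer_instance
  haveI := QCoh.Pullback.isQCoh_pullback pX ((tilde.functor (CommRingCat.of A)).obj M)
  TensorMod.TensorQCoh.isQCoh_tensorMod
    ((Scheme.Modules.pullback pX).obj ((tilde.functor (CommRingCat.of A)).obj M)) F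

/-- The map on cohomology induced by a map of modules. -/
abbrev HT (d : ℕ) {M N : ModuleCat.{u} A} (g : M ⟶ N) : Coh.HH X (G F M) d →+ Coh.HH X (G F N) d :=
  FibreVanish36.Finite.hm ((CohIII.tensorAFunctor A F).map g) d

omit [F.IsQuasicoherent] in
theorem preservesColimits_tensorA : PreservesColimitsOfSize.{u, u} (CohIII.tensorAFunctor A F) := by
  have h1 : PreservesColimitsOfSize.{u, u} (DCoh.tensorRightMod F) :=
    TensorMod.Colimit.preservesColimits_tensor_right F
  have h2 : PreservesColimitsOfSize.{u, u} (Scheme.Modules.pullback pX) :=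
    (Scheme.Modules.pullbackPushforwardAdjunction pX).leftAdjoint_preservesColimits
  haveI : PreservesColimitsOfSize.{u, u} (tilde.functor (CommRingCat.of A)) :=
    (tilde.adjunction (R := CommRingCat.of A)).leftAdjoint_preservesColimits
  unfold CohIII.tensorAFunctor
  infer_instance

omit [F.IsQuasicoherent] in
theorem preservesFiniteColimits_tensorA : PreservesFiniteColimits (CohIII.tensorAFunctor A F) :=
  haveI := preservesColimits_tensorA A F
  PreservesColimitsOfSize.preservesFiniteColimits _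

/-- A surjection of modules gives a surjection in top degree. -/
theorem HT_surjective (d : ℕ) (hv : Van X (d + 1)) {M N : ModuleCat.{u} A} (g : M ⟶ N) [Epi g] :
    Function.Surjective (HT A F d g) := by
  haveI := preservesFiniteColimits_tensorA A F
  haveI : Epi ((CohIII.tensorAFunctor A F).map g) := inferInstance
  exact FibreVanish36.Finite.hm_surjective _ d
    (hv _ (haveI := isQCoh_G A F M; haveI := isQCoh_G A F N; QCoh.Closure.isQCoh_kernel _))

/-- Vanishing on `G M` passes to the kernels of `G M ⟶ G N`. -/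
theorem HT_exact (d : ℕ) (hv : Van X (d + 1)) (S : ShortComplex (ModuleCat.{u} A)) (hS : S.Exact)
    [Epi S.g] (y : Coh.HH X (G F S.X₂) d) (hy : HT A F d S.g y = 0) :
    ∃ x, HT A F d S.f x = y := by
  haveI := preservesFiniteColimits_tensorA A F
  let g := (CohIII.tensorAFunctor A F).map S.g
  haveI : Epi g := inferInstance
  let T : ShortComplex X.Modules := ShortComplex.mk (kernel.ι g) g (kernel.condition g)
  have hT : T.ShortExact := { exact := ShortComplex.exact_of_f_is_kernel _ (kernelIsKernel g) }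
  haveI hker : (kernel g : X.Modules).IsQuasicoherent :=
    haveI := isQCoh_G A F S.X₂; haveI := isQCoh_G A F S.X₃; QCoh.Closure.isQCoh_kernel _
  obtain ⟨k, hk⟩ := ((Curves.LES.postcomp_exact₂ (Curves.LES.cst X)
    (Curves.LES.shortExact_abSES hT) d) y).1 hy
  have hex : (S.map (CohIII.tensorAFunctor A F)).Exact := hS.map_of_epi_of_preservesCokernel _ ‹_› inferInstance
  let l : (CohIII.tensorAFunctor A F).obj S.X₁ ⟶ kernel g :=
    kernel.lift g ((CohIII.tensorAFunctor A F).map S.f) (by
      rw [← Functor.map_comp, S.zero, Functor.map_zero])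
  haveI : Epi l := hex.epi_kernelLift
  obtain ⟨x, hx⟩ := FibreVanish36.Finite.hm_surjective l d
    (hv _ (haveI := isQCoh_G A F S.X₁; QCoh.Closure.isQCoh_kernel _)) k
  refine ⟨x, ?_⟩
  rw [← hk, ← hx]
  show _ = FibreVanish36.Finite.hm (kernel.ι g) d (FibreVanish36.Finite.hm l d x)
  rw [← FibreVanish36.Finite.hm_comp, kernel.lift_ι]

omit [F.IsQuasicoherent] in
theorem HT_comp (d : ℕ) {M N P : ModuleCat.{u} A} (f : M ⟶ N) (g : N ⟶ P) (x : Coh.HH X (G F M) d) :
    HT A F d (f ≫ g) x = HT A F d g (HT A F d f x) := by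
  show FibreVanish36.Finite.hm ((CohIII.tensorAFunctor A F).map (f ≫ g)) d x = _
  rw [(CohIII.tensorAFunctor A F).map_comp]
  exact FibreVanish36.Finite.hm_comp _ _ d x

omit [F.IsQuasicoherent] in
theorem HT_id (d : ℕ) {M : ModuleCat.{u} A} (x : Coh.HH X (G F M) d) : HT A F d (𝟙 M) x = x := by
  show FibreVanish36.Finite.hm ((CohIII.tensorAFunctor A F).map (𝟙 M)) d x = x
  rw [(CohIII.tensorAFunctor A F).map_id]
  exact (congrArg (fun h => Sheaf.H.map h d x) ((Curves.LES.F X).map_id _)).trans
    (Sheaf.H.map_id_apply _)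

omit [F.IsQuasicoherent] in
theorem HT_smul (d : ℕ) (a : A) {M : ModuleCat.{u} A} (x : Coh.HH X (G F M) d) :
    HT A F d (a • 𝟙 M) x = a • x := by
  show Sheaf.H.map ((SheafOfModules.toSheaf X.ringCatSheaf).map
    ((CohIII.tensorAFunctor A F).map (a • 𝟙 M))) d x = _
  rw [ZarCoh.Exchange.Linear.G_map_smul]
  rfl

omit [F.IsQuasicoherent] in
theorem HT_add (d : ℕ) {M N : ModuleCat.{u} A} (g h : M ⟶ N) (x : Coh.HH X (G F M) d) :
    HT A F d (g + h) x = HT A F d g x + HT A F d h x := by
  show FibreVanish36.Finite.hm ((CohIII.tensorAFunctor A F).map (g + h)) d x = _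
  have : (CohIII.tensorAFunctor A F).map (g + h) =
      (CohIII.tensorAFunctor A F).map g + (CohIII.tensorAFunctor A F).map h :=
    haveI : (CohIII.tensorAFunctor A F).Additive := by unfold CohIII.tensorAFunctor; infer_instance
    Functor.map_add _
  rw [this]
  exact (congrArg (fun h => Sheaf.H.map h d x) ((Curves.LES.F X).map_add)).trans
    (Sheaf.H.map_add_apply _ _ x)

omit [F.IsQuasicoherent] in
theorem HT_zero (d : ℕ) {M N : ModuleCat.{u} A} (x : Coh.HH X (G F M) d) :
    HT A F d (0 : M ⟶ N) x = 0 := by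
  have h := HT_add A F d (0 : M ⟶ N) 0 x
  rw [add_zero] at h
  exact left_eq_add.1 h

omit [F.IsQuasicoherent] in
/-- Linearity in the source. -/
theorem HT_map_smul (d : ℕ) (a : A) {M N : ModuleCat.{u} A} (g : M ⟶ N) (x : Coh.HH X (G F M) d) :
    HT A F d g (a • x) = a • HT A F d g x := by
  rw [← HT_smul, ← HT_smul, ← HT_comp, ← HT_comp]
  simp

/-! ### Generation by `H^d(X, F)` -/

variable [QuasiCompact (X ↘ Spec (CommRingCat.of A))] [IsSeparated (X ↘ Spec (CommRingCat.of A))]

theorem exists_finite_free (d : ℕ) (L : ModuleCat.{u} A) [Module.Free A L] (y : Coh.HH X (G F L) d) :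
    ∃ (n : ℕ) (i : ModuleCat.of A (Fin n → A) ⟶ L) (x : Coh.HH X (G F (ModuleCat.of A (Fin n → A))) d),
      HT A F d i x = y := by
  classical
  haveI : X.IsSeparated := ⟨by rw [← terminal.comp_from pX]; infer_instance⟩
  haveI : CompactSpace X := (quasiCompact_iff_compactSpace pX).mp inferInstance
  obtain ⟨s, hs, hcov⟩ :=
    isCompact_and_isOpen_iff_finite_and_eq_biUnion_affineOpens.mp
      ⟨(isCompact_univ : IsCompact (Set.univ : Set X)), isOpen_univ⟩
  haveI := hs.to_subtype
  let U : s → X.Opens := fun i => i.1.1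
  have hU : ∀ {q : ℕ} (i : Fin (q + 1) → s), IsAffineOpen (Cech.Complex.inter U i) := fun i =>
    IsAffineOpen.iInf fun a => (i a).1.2
  have hUtop : iSup U = ⊤ := by
    apply TopologicalSpace.Opens.ext
    rw [TopologicalSpace.Opens.coe_iSup, TopologicalSpace.Opens.coe_top, hcov]
    ext x
    simp
  obtain ⟨e⟩ := ZarCoh.Exchange.Compare.nonempty_natIso A U F hU hUtop d
  let K := C A U F
  obtain ⟨w, rfl⟩ := (e.app L).addCommGroupIsoToAddEquiv.surjective y
  have hn : (ComplexShape.up ℤ).next (d : ℤ) = (d : ℤ) + 1 := FlatCx.Above.next_up rfl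
  obtain ⟨⟨z, hz⟩, rfl⟩ := FlatCx.Elem.cls_surjective (K := CohIII.tensorObj K L) hn w
  change ↑(K.X (d : ℤ)) ⊗[A] ↑L at z
  obtain ⟨S, hS⟩ := TensorProduct.exists_finset z
  let b := Module.Free.chooseBasis A L
  let J := Module.Free.ChooseBasisIndex A L
  let Φ : Finset J := S.biUnion fun t => (b.repr t.2).support
  let n := Φ.card
  let ε : Fin n ≃ Φ := Φ.equivFin.symm
  let i : (Fin n → A) →ₗ[A] L := Fintype.linearCombination A fun k => b (ε k).1
  let r : L →ₗ[A] (Fin n → A) := LinearMap.pi fun k => b.coord (ε k).1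
  have hri : r ∘ₗ i = LinearMap.id := by
    refine LinearMap.ext fun c => funext fun k => ?_
    simp only [r, i, LinearMap.comp_apply, LinearMap.pi_apply, Fintype.linearCombination_apply,
      map_sum, map_smul, Module.Basis.coord_apply, Module.Basis.repr_self, LinearMap.id_apply]
    rw [Finset.sum_eq_single k]
    · simp
    · intro l _ hl
      rw [Finsupp.single_eq_of_ne (fun h => hl (ε.injective (Subtype.ext h)).symm), smul_zero]
    · simp
  have hir : ∀ t ∈ S, i (r t.2) = t.2 := fun t ht => by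
    refine b.repr.injective (Finsupp.ext fun j => ?_)
    simp only [r, i, LinearMap.pi_apply, Fintype.linearCombination_apply, map_sum, map_smul,
      Module.Basis.repr_self, Module.Basis.coord_apply, Finsupp.coe_finsetSum, Finset.sum_apply,
      Finsupp.smul_apply, smul_eq_mul]
    by_cases hj : j ∈ Φ
    · rw [Finset.sum_eq_single (ε.symm ⟨j, hj⟩)]
      · simp
      · intro l _ hl
        rw [Finsupp.single_eq_of_ne (fun h => hl (ε.injective (by simp [h]))), mul_zero]
      · simp
    · have h0 : b.repr t.2 j = 0 := by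
        by_contra h
        exact hj (Finset.mem_biUnion.2 ⟨t, ht, Finsupp.mem_support_iff.2 h⟩)
      rw [h0]
      exact Finset.sum_eq_zero fun l _ => by
        rw [Finsupp.single_eq_of_ne (fun h => hj (by rw [h]; exact (ε l).2)), mul_zero]
  let F0 := ModuleCat.of A (Fin n → A)
  let z' : K.X (d : ℤ) ⊗[A] (Fin n → A) := r.lTensor _ z
  have hz1 : i.lTensor (K.X (d : ℤ)) z' = z := by
    rw [← LinearMap.lTensor_comp_apply, hS, map_sum]
    exact Finset.sum_congr rfl fun t ht => by rw [LinearMap.lTensor_tmul, LinearMap.comp_apply, hir t ht]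
  have hz0 : (K.d (d : ℤ) ((d : ℤ) + 1)).hom.rTensor (Fin n → A) z' = 0 := by
    show (K.d (d : ℤ) ((d : ℤ) + 1)).hom.rTensor (Fin n → A) (r.lTensor _ z) = 0
    rw [← LinearMap.comp_apply, LinearMap.rTensor_comp_lTensor, ← LinearMap.lTensor_comp_rTensor,
      LinearMap.comp_apply, show (K.d (d : ℤ) ((d : ℤ) + 1)).hom.rTensor L z = 0 from hz, map_zero]
  refine ⟨n, ModuleCat.ofHom i, (e.app F0).addCommGroupIsoToAddEquiv
    (FlatCx.Elem.cls (K := CohIII.tensorObj K F0) hn ⟨z', hz0⟩), ?_⟩
  refine (ConcreteCategory.congr_hom (e.hom.naturality (ModuleCat.ofHom i)) _).symm.trans ?_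
  show (e.hom.app L).hom ((CohIII.TFun K (d : ℤ)).map (ModuleCat.ofHom i) _) = _
  exact congrArg (e.hom.app L).hom (FlatCx.Elem.homologyMap_cls
    (CohIII.tensorMap K (ModuleCat.ofHom i : F0 ⟶ L)) hn ⟨z', hz0⟩ ⟨z, hz⟩ hz1)

omit [F.IsQuasicoherent] [QuasiCompact (X ↘ Spec (CommRingCat.of A))]
  [IsSeparated (X ↘ Spec (CommRingCat.of A))] in
theorem mem_closure_free (d : ℕ) (n : ℕ) (y : Coh.HH X (G F (ModuleCat.of A (Fin n → A))) d) :
    ∃ x : Fin n → Coh.HH X (G F (ModuleCat.of A A)) d,
      y = ∑ k, HT A F d (ModuleCat.ofHom (LinearMap.single A (fun _ => A) k)) (x k) := by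
  classical
  refine ⟨fun k => HT A F d (ModuleCat.ofHom (LinearMap.proj k)) y, ?_⟩
  let φ : Fin n → (ModuleCat.of A (Fin n → A) ⟶ ModuleCat.of A (Fin n → A)) := fun k =>
    ModuleCat.ofHom (LinearMap.proj k) ≫ ModuleCat.ofHom (LinearMap.single A (fun _ => A) k)
  have hid : (∑ k, φ k) = 𝟙 _ := by
    refine ModuleCat.hom_ext (LinearMap.ext fun c => funext fun j => ?_)
    simp [φ, ModuleCat.hom_sum, Pi.single_apply]
  have hsum : ∀ s : Finset (Fin n), HT A F d (∑ k ∈ s, φ k) y = ∑ k ∈ s, HT A F d (φ k) y := by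
    intro s
    induction s using Finset.induction_on with
    | empty => simp only [Finset.sum_empty, HT_zero]
    | insert a s ha ih => rw [Finset.sum_insert ha, Finset.sum_insert ha, HT_add, ih]
  refine Eq.trans ?_ (Finset.sum_congr rfl fun k _ => HT_comp A F d _ _ y)
  show y = ∑ k, HT A F d (φ k) y
  rw [← hsum, hid, HT_id]

/-- `H^d(X, G M)` is spanned by the images of `H^d(X, F)`. -/
theorem exists_sum (d : ℕ) {M : ModuleCat.{u} A}
    (hs : ∀ {L : ModuleCat.{u} A} (g : L ⟶ M), Epi g → Function.Surjective (HT A F d g))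
    (y : Coh.HH X (G F M) d) :
    ∃ (n : ℕ) (m : Fin n → M) (x : Fin n → Coh.HH X (G F (ModuleCat.of A A)) d),
      y = ∑ k, HT A F d (θ M (m k)) (x k) := by
  let p : ModuleCat.of A (M →₀ A) ⟶ M := ModuleCat.ofHom (Finsupp.linearCombination A id)
  obtain ⟨z, rfl⟩ := hs p ((ModuleCat.epi_iff_surjective _).2 (Finsupp.linearCombination_id_surjective A M)) y
  obtain ⟨n, i, w, rfl⟩ := exists_finite_free A F d _ z
  obtain ⟨x, rfl⟩ := mem_closure_free A F d n w
  refine ⟨n, fun k => p (i (Pi.single k 1)), x, ?_⟩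
  rw [map_sum, map_sum]
  refine Finset.sum_congr rfl fun k _ => ?_
  rw [← HT_comp, ← HT_comp]
  congr 2
  exact (θ_one M (ModuleCat.ofHom (LinearMap.single A (fun _ => A) k) ≫ i ≫ p)).symm.trans rfl

/-- What kills `H^d(X, F)` kills everything. -/
theorem smul_eq_zero (d : ℕ) (hv : Van X (d + 1)) (a : A)
    (ha : ∀ x : Coh.HH X (G F (ModuleCat.of A A)) d, a • x = 0) (M : ModuleCat.{u} A)
    (y : Coh.HH X (G F M) d) : a • y = 0 := by
  obtain ⟨n, m, x, rfl⟩ := exists_sum A F d (fun g _ => HT_surjective A F d hv g) y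
  rw [Finset.smul_sum]
  refine Finset.sum_eq_zero fun k _ => ?_
  rw [← HT_map_smul, ha, map_zero]

/-- An element killed in a localisation is killed by an element outside. -/
theorem exists_smul_eq_zero (d : ℕ) (p : Ideal A) [p.IsPrime]
    (x : Coh.HH X (G F (ModuleCat.of A A)) d)
    (h : HT A F d (θ (ModuleCat.of A (Localization.AtPrime p)) (1 : Localization.AtPrime p)) x = 0) :
    ∃ s ∉ p, s • x = 0 := by
  classical
  haveI : X.IsSeparated := ⟨by rw [← terminal.comp_from pX]; infer_instance⟩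
  haveI : CompactSpace X := (quasiCompact_iff_compactSpace pX).mp inferInstance
  obtain ⟨s, hs, hcov⟩ :=
    isCompact_and_isOpen_iff_finite_and_eq_biUnion_affineOpens.mp
      ⟨(isCompact_univ : IsCompact (Set.univ : Set X)), isOpen_univ⟩
  haveI := hs.to_subtype
  let U : s → X.Opens := fun i => i.1.1
  have hU : ∀ {q : ℕ} (i : Fin (q + 1) → s), IsAffineOpen (Cech.Complex.inter U i) := fun i =>
    IsAffineOpen.iInf fun a => (i a).1.2
  have hUtop : iSup U = ⊤ := by
    apply TopologicalSpace.Opens.ext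
    rw [TopologicalSpace.Opens.coe_iSup, TopologicalSpace.Opens.coe_top, hcov]
    ext x
    simp
  obtain ⟨e⟩ := ZarCoh.Exchange.Compare.nonempty_natIso A U F hU hUtop d
  let K := C A U F
  let B := Localization.AtPrime p
  let N := ModuleCat.of A B
  let A1 := ModuleCat.of A A
  obtain ⟨w, rfl⟩ := (e.app A1).addCommGroupIsoToAddEquiv.surjective x
  have h' : (CohIII.TFun K (d : ℤ)).map (θ N (1 : B)) w = 0 := by
    refine (e.app N).addCommGroupIsoToAddEquiv.injective (Eq.trans ?_ (map_zero _).symm)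
    exact (ConcreteCategory.congr_hom (e.hom.naturality (θ N (1 : B))) w).trans h
  have hn : (ComplexShape.up ℤ).next (d : ℤ) = (d : ℤ) + 1 := FlatCx.Above.next_up rfl
  have hp : (ComplexShape.up ℤ).prev (d : ℤ) = (d : ℤ) - 1 := FlatCx.Above.prev_up (by omega)
  obtain ⟨⟨z, hz⟩, rfl⟩ := FlatCx.Elem.cls_surjective (K := CohIII.tensorObj K A1) hn w
  change ↑(K.X (d : ℤ)) ⊗[A] A at z
  have hz' : (CohIII.tensorObj K N).d (d : ℤ) ((d : ℤ) + 1) ((θ N (1 : B)).hom.lTensor _ z) = 0 := by
    show (K.d (d : ℤ) ((d : ℤ) + 1)).hom.rTensor N ((θ N (1 : B)).hom.lTensor _ z) = 0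
    rw [← LinearMap.comp_apply, LinearMap.rTensor_comp_lTensor, ← LinearMap.lTensor_comp_rTensor,
      LinearMap.comp_apply, show (K.d (d : ℤ) ((d : ℤ) + 1)).hom.rTensor A1 z = 0 from hz, map_zero]
  have h0 : FlatCx.Elem.cls (K := CohIII.tensorObj K N) hn ⟨(θ N (1 : B)).hom.lTensor _ z, hz'⟩ = 0 :=
    (FlatCx.Elem.homologyMap_cls (CohIII.tensorMap K (θ N (1 : B))) hn ⟨z, hz⟩ _ rfl).symm.trans h'
  obtain ⟨y, hy⟩ := (FlatCx.Elem.cls_eq_zero_iff hp hn _).1 h0
  change ↑(K.X ((d : ℤ) - 1)) ⊗[A] B at y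
  have hy' : (K.d ((d : ℤ) - 1) (d : ℤ)).hom.rTensor B y = (θ N (1 : B)).hom.lTensor _ z := hy
  -- clear the denominator of `y`
  have hden : ∀ y : K.X ((d : ℤ) - 1) ⊗[A] B, ∃ t : p.primeCompl, ∃ c : K.X ((d : ℤ) - 1),
      (t : A) • y = c ⊗ₜ (1 : B) := fun y => by
    induction y using TensorProduct.induction_on with
    | zero => exact ⟨1, 0, by simp⟩
    | tmul c b =>
      obtain ⟨r, t, rfl⟩ := IsLocalization.exists_mk'_eq p.primeCompl b
      refine ⟨t, r • c, ?_⟩
      rw [← TensorProduct.tmul_smul, TensorProduct.smul_tmul, Algebra.smul_def, Algebra.smul_def,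
        mul_one, IsLocalization.mk'_spec']
    | add a b ha hb =>
      obtain ⟨t, c, hc⟩ := ha
      obtain ⟨t', c', hc'⟩ := hb
      refine ⟨t * t', (t' : A) • c + (t : A) • c', ?_⟩
      rw [smul_add, Submonoid.coe_mul, mul_comm (t : A), mul_smul, hc, mul_comm (t' : A), mul_smul, hc',
        TensorProduct.add_tmul, ← TensorProduct.smul_tmul', ← TensorProduct.smul_tmul']
  obtain ⟨t, c, hc⟩ := hden y
  let z₀ := TensorProduct.rid A (K.X (d : ℤ)) z
  have hzθ : (θ N (1 : B)).hom.lTensor (K.X (d : ℤ)) z = z₀ ⊗ₜ (1 : B) := by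
    have hh : ∀ z : K.X (d : ℤ) ⊗[A] A, (θ N (1 : B)).hom.lTensor _ z =
        TensorProduct.rid A (K.X (d : ℤ)) z ⊗ₜ (1 : B) := fun z => by
      induction z using TensorProduct.induction_on with
      | zero => simp
      | tmul c a =>
        rw [LinearMap.lTensor_tmul, TensorProduct.rid_tmul, TensorProduct.smul_tmul]
        rfl
      | add a b ha hb => simp only [map_add, ha, hb, TensorProduct.add_tmul]
    exact hh z
  have heq : (t : A) • z₀ ⊗ₜ[A] (1 : B) = (K.d ((d : ℤ) - 1) (d : ℤ)).hom c ⊗ₜ (1 : B) := by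
    rw [← hzθ, ← hy', ← map_smul, hc, LinearMap.rTensor_tmul]
  rw [TensorProduct.smul_tmul'] at heq
  haveI : IsLocalizedModule p.primeCompl ((TensorProduct.mk A B (K.X (d : ℤ))) 1) := inferInstance
  obtain ⟨t', ht'⟩ := IsLocalizedModule.exists_of_eq (S := p.primeCompl)
    (f := (TensorProduct.mk A B (K.X (d : ℤ))) 1)
    (x₁ := (t : A) • z₀) (x₂ := (K.d ((d : ℤ) - 1) (d : ℤ)).hom c)
    (by simpa using congrArg (TensorProduct.comm A _ _) heq)
  refine ⟨(t' * t : p.primeCompl), (t' * t).2, ?_⟩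
  have hcls : ((t' * t : p.primeCompl) : A) • FlatCx.Elem.cls (K := CohIII.tensorObj K A1) hn ⟨z, hz⟩ = 0 := by
    rw [← map_smul, FlatCx.Elem.cls_eq_zero_iff hp hn]
    refine ⟨((t' : A) • c) ⊗ₜ (1 : A), ?_⟩
    refine (TensorProduct.rid A (K.X (d : ℤ))).injective ?_
    show TensorProduct.rid A _ ((K.d ((d : ℤ) - 1) (d : ℤ)).hom ((t' : A) • c) ⊗ₜ (1 : A)) =
      TensorProduct.rid A _ (((t' * t : p.primeCompl) : A) • (show K.X (d : ℤ) ⊗[A] A from z))
    rw [TensorProduct.rid_tmul, one_smul, map_smul, map_smul, Submonoid.coe_mul, mul_smul]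
    exact ht'.symm
  have hlin := ZarCoh.Exchange.Main.natIso_smul A F e A1 ((t' * t : p.primeCompl) : A)
    (FlatCx.Elem.cls (K := CohIII.tensorObj K A1) hn ⟨z, hz⟩)
  refine hlin.symm.trans ?_
  exact (congrArg _ hcls).trans (map_zero _)

/-- If the top cohomology of a fibre vanishes, an element outside the prime kills top cohomology. -/
theorem exists_annihilator (d : ℕ) (hv : Van X (d + 1))
    (hfin : Module.Finite A (Coh.HH X (G F (ModuleCat.of A A)) d)) (p : Ideal A) [p.IsPrime]
    (h0 : Subsingleton (Coh.HH X (G F (ModuleCat.of A p.ResidueField)) d)) :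
    ∃ s ∉ p, ∀ x : Coh.HH X (G F (ModuleCat.of A A)) d, s • x = 0 := by
  classical
  let B := Localization.AtPrime p
  let N := ModuleCat.of A B
  let H := Coh.HH X (G F N) d
  let mul : B → (N ⟶ N) := fun b => ModuleCat.ofHom (LinearMap.mulLeft A b)
  let φ : B →+* AddMonoid.End H :=
    { toFun := fun b => HT A F d (mul b)
      map_one' := by
        refine AddMonoidHom.ext fun x => ?_
        show HT A F d (mul 1) x = x
        rw [show mul 1 = 𝟙 N from ModuleCat.hom_ext (LinearMap.ext fun c => one_mul c), HT_id]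
      map_mul' := fun b b' => by
        refine AddMonoidHom.ext fun x => ?_
        show HT A F d (mul (b * b')) x = HT A F d (mul b) (HT A F d (mul b') x)
        rw [show mul (b * b') = mul b' ≫ mul b from
          ModuleCat.hom_ext (LinearMap.ext fun c => mul_assoc b b' c), HT_comp]
      map_zero' := by
        refine AddMonoidHom.ext fun x => ?_
        show HT A F d (mul 0) x = 0
        rw [show mul 0 = 0 from ModuleCat.hom_ext (LinearMap.ext fun c => zero_mul c), HT_zero]
      map_add' := fun b b' => by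
        refine AddMonoidHom.ext fun x => ?_
        show HT A F d (mul (b + b')) x = HT A F d (mul b) x + HT A F d (mul b') x
        rw [show mul (b + b') = mul b + mul b' from
          ModuleCat.hom_ext (LinearMap.ext fun c => add_mul b b' c), HT_add] }
  letI : Module B H := Module.compHom H φ
  have hsmul : ∀ (b : B) (x : H), b • x = HT A F d (mul b) x := fun _ _ => rfl
  let u : Coh.HH X (G F (ModuleCat.of A A)) d → H := HT A F d (θ N (1 : B))
  have hθ : ∀ (b : B) x, HT A F d (θ N b) x = b • u x := fun b x => by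
    rw [hsmul, show θ N b = θ N (1 : B) ≫ mul b from ModuleCat.hom_ext (LinearMap.ext fun a => by
      show a • b = b * (a • (1 : B))
      rw [mul_smul_comm, mul_one])]
    exact HT_comp A F d _ _ x
  obtain ⟨T, hT⟩ := hfin.fg_top
  let R : Submodule B H := Submodule.span B (u '' (T : Set _))
  have hu : ∀ x, u x ∈ R := fun x => by
    have hx : x ∈ Submodule.span A (T : Set (Coh.HH X (G F (ModuleCat.of A A)) d)) := by
      rw [hT]; trivial
    induction hx using Submodule.span_induction with
    | mem x hx => exact Submodule.subset_span ⟨x, hx, rfl⟩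
    | zero => simp [u]
    | add x y _ _ h1 h2 => simpa [u] using R.add_mem h1 h2
    | smul a x _ h1 =>
      have : u (a • x) = algebraMap A B a • u x := by
        show HT A F d _ (a • x) = _
        rw [HT_map_smul, hsmul, ← HT_smul A F d a,
          show mul (algebraMap A B a) = a • 𝟙 N from ModuleCat.hom_ext (LinearMap.ext fun c =>
            (Algebra.smul_def a c).symm)]
      rw [this]
      exact R.smul_mem _ h1
  have htop : (⊤ : Submodule B H) = R := by
    refine le_antisymm (fun y _ => ?_) le_top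
    obtain ⟨n, m, x, rfl⟩ := exists_sum A F d (fun g _ => HT_surjective A F d hv g) y
    exact R.sum_mem fun k _ => by rw [hθ]; exact R.smul_mem _ (hu _)
  let m : Ideal B := IsLocalRing.maximalIdeal B
  let S : ShortComplex (ModuleCat.{u} A) := ShortComplex.mk
    (ModuleCat.ofHom (m.restrictScalars A).subtype : ModuleCat.of A (m.restrictScalars A) ⟶ N)
    (ModuleCat.ofHom (IsScalarTower.toAlgHom A B p.ResidueField).toLinearMap :
      N ⟶ ModuleCat.of A p.ResidueField)
    (ModuleCat.hom_ext (LinearMap.ext fun c => (IsLocalRing.residue_eq_zero_iff _).2 c.2))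
  have hS : S.Exact := by
    rw [ShortComplex.moduleCat_exact_iff]
    intro c hc
    exact ⟨⟨c, (IsLocalRing.residue_eq_zero_iff (c : B)).1 hc⟩, rfl⟩
  haveI : Epi S.g := (ModuleCat.epi_iff_surjective _).2 IsLocalRing.residue_surjective
  have hle : (⊤ : Submodule B H) ≤ m • ⊤ := fun y _ => by
    obtain ⟨x, rfl⟩ := HT_exact A F d hv S hS y (h0.elim _ _)
    obtain ⟨n, c, z, rfl⟩ := exists_sum A F d (fun g _ => HT_surjective A F d hv g) x
    rw [map_sum]
    refine Submodule.sum_mem _ fun k _ => ?_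
    rw [← HT_comp, show θ S.X₁ (c k) ≫ S.f = θ N (c k).1 from
      ModuleCat.hom_ext (LinearMap.ext fun a => rfl), hθ]
    exact Submodule.smul_mem_smul (c k).2 Submodule.mem_top
  have hbot : (⊤ : Submodule B H) = ⊥ :=
    Submodule.eq_bot_of_le_smul_of_le_jacobson_bot m ⊤
      (by rw [htop]; exact Submodule.fg_span (T.finite_toSet.image _)) hle
      (IsLocalRing.maximalIdeal_le_jacobson _)
  have hann : ∀ x : T, ∃ s ∉ p, s • (x : Coh.HH X (G F (ModuleCat.of A A)) d) = 0 := fun x =>
    exists_smul_eq_zero A F d p x.1 (Submodule.eq_bot_iff _ |>.1 hbot (u x.1) Submodule.mem_top)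
  choose t ht ht' using hann
  refine ⟨∏ x : T, t x, fun h => ?_, fun x => ?_⟩
  · obtain ⟨i, -, hi⟩ := (‹p.IsPrime›.prod_mem_iff).1 h
    exact ht i hi
  · have hx : x ∈ Submodule.span A (T : Set (Coh.HH X (G F (ModuleCat.of A A)) d)) := by
      rw [hT]; trivial
    induction hx using Submodule.span_induction with
    | mem x hx =>
      obtain ⟨c, hc⟩ := Finset.dvd_prod_of_mem t (Finset.mem_univ (⟨x, hx⟩ : T))
      rw [hc, mul_comm, mul_smul, ht' ⟨x, hx⟩, smul_zero]
    | zero => rw [smul_zero]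
    | add x y _ _ h1 h2 => rw [smul_add, h1, h2, add_zero]
    | smul a x _ h1 => rw [smul_comm, h1, smul_zero]

end

end Groth.Agent.Lib.Amp36.TopDegree
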