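import Groth.Agent.Lib.Amp36.TopDegree
import Mathlib.LinearAlgebra.Basis.VectorSpace
import Mathlib.RingTheory.LocalRing.ResidueField.Ideal

/-!
# Propagation of the vanishing of top degree cohomology
-/

set_option autoImplicit false
set_option linter.style.haveILetI false
universe u

open CategoryTheory Limits AlgebraicGeometry

namespace Groth.Agent.Lib.Amp36.TopVanish

open Groth.Agent.Lib Groth.Agent.Lib.FlatCxW.Watts ZarCoh.Exchange.Sections TopDegree

noncomputable section

variable (A : Type u) [CommRing A] {X : Scheme.{u}} [X.Over (Spec (CommRingCat.of A))]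
variable (F : X.Modules) [F.IsQuasicoherent]
variable [QuasiCompact (X ↘ Spec (CommRingCat.of A))] [IsSeparated (X ↘ Spec (CommRingCat.of A))]

/-- The value of `H^d(X, f^* M~ ⊗ F)` vanishes. -/
abbrev Zero (d : ℕ) (M : ModuleCat.{u} A) : Prop := Subsingleton (Coh.HH X (G F M) d)

variable {d : ℕ}

omit [QuasiCompact (X ↘ Spec (CommRingCat.of A))] [IsSeparated (X ↘ Spec (CommRingCat.of A))] in
/-- One degree below vanishing, surjections still give surjections. -/
theorem HT_surjective' (hv : Van X (d + 2)) (hz : ∀ M : ModuleCat.{u} A, Zero A F (d + 1) M)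
    {M N : ModuleCat.{u} A} (g : M ⟶ N) [Epi g] : Function.Surjective (HT A F d g) := by
  haveI := preservesFiniteColimits_tensorA A F
  let G' := CohIII.tensorAFunctor A F
  haveI : Epi (G'.map g) := inferInstance
  let S : ShortComplex (ModuleCat.{u} A) := ShortComplex.mk (kernel.ι g) g (kernel.condition g)
  have hS : S.Exact := ShortComplex.exact_of_f_is_kernel _ (kernelIsKernel g)
  haveI : Epi S.g := ‹Epi g›
  have hex : (S.map G').Exact := hS.map_of_epi_of_preservesCokernel _ ‹_› inferInstance
  let l : G'.obj S.X₁ ⟶ kernel (G'.map g) :=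
    kernel.lift (G'.map g) (G'.map S.f) (by rw [← Functor.map_comp, S.zero, Functor.map_zero])
  haveI : Epi l := hex.epi_kernelLift
  haveI hker : (kernel (G'.map g) : X.Modules).IsQuasicoherent :=
    haveI := isQCoh_G A F M; haveI := isQCoh_G A F N; QCoh.Closure.isQCoh_kernel _
  haveI := hz S.X₁
  exact FibreVanish36.Finite.hm_surjective _ d (FibreVanish36.Finite.hm_surjective l (d + 1)
    (hv _ (haveI := isQCoh_G A F S.X₁; QCoh.Closure.isQCoh_kernel _))).subsingleton

omit [QuasiCompact (X ↘ Spec (CommRingCat.of A))] [IsSeparated (X ↘ Spec (CommRingCat.of A))]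
  [F.IsQuasicoherent] in
theorem zero_of_retract {M N : ModuleCat.{u} A} (i : M ⟶ N) (r : N ⟶ M) (h : i ≫ r = 𝟙 M)
    (hN : Zero A F d N) : Zero A F d M := by
  refine subsingleton_of_forall_eq 0 fun x => ?_
  rw [← HT_id A F d x, ← h, HT_comp, hN.elim (HT A F d i x) 0, map_zero]

/-- If it vanishes on an algebra, it vanishes on its modules. -/
theorem zero_of_algebra (hv : Van X (d + 1)) (B : Type u) [CommRing B] [Algebra A B]
    (hB : Zero A F d (ModuleCat.of A B)) (M : Type u) [AddCommGroup M] [Module A M] [Module B M]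
    [IsScalarTower A B M] : Zero A F d (ModuleCat.of A M) := by
  refine subsingleton_of_forall_eq 0 fun y => ?_
  obtain ⟨n, m, x, rfl⟩ := exists_sum A F d (fun g _ => HT_surjective A F d hv g) y
  refine Finset.sum_eq_zero fun k _ => ?_
  rw [show θ (ModuleCat.of A M) (m k) = θ (ModuleCat.of A B) (1 : B) ≫
      ModuleCat.ofHom ((LinearMap.toSpanSingleton B M (m k)).restrictScalars A) from
    ModuleCat.hom_ext (LinearMap.ext fun a => by
      show a • m k = (a • (1 : B)) • m k
      rw [smul_assoc, one_smul]), HT_comp, hB.elim (HT A F d (θ _ (1 : B)) (x k)) 0, map_zero]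

/-- Vanishing on an algebra gives vanishing on the residue field below each of its primes. -/
theorem zero_residueField_of_algebra (hv : Van X (d + 1)) (B : Type u) [CommRing B] [Algebra A B]
    (hB : Zero A F d (ModuleCat.of A B)) (q : Ideal B) [q.IsPrime] (p : Ideal A) [p.IsPrime]
    (hp : p = q.comap (algebraMap A B)) : Zero A F d (ModuleCat.of A p.ResidueField) := by
  have hK := zero_of_algebra A F hv B hB q.ResidueField
  let φ : p.ResidueField →ₐ[A] q.ResidueField :=
    Ideal.ResidueField.mapₐ p q (Algebra.ofId A B) hp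
  letI : Algebra p.ResidueField q.ResidueField := φ.toRingHom.toAlgebra
  haveI : IsScalarTower A p.ResidueField q.ResidueField :=
    IsScalarTower.of_algebraMap_eq fun a => (φ.commutes a).symm
  obtain ⟨r, hr⟩ := LinearMap.exists_leftInverse_of_injective
    (Algebra.linearMap p.ResidueField q.ResidueField)
    (LinearMap.ker_eq_bot.2 (RingHom.injective _))
  refine zero_of_retract A F (N := ModuleCat.of A q.ResidueField)
    (ModuleCat.ofHom ((Algebra.linearMap p.ResidueField q.ResidueField).restrictScalars A))
    (ModuleCat.ofHom (r.restrictScalars A)) ?_ hK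
  exact ModuleCat.hom_ext (LinearMap.ext fun c => LinearMap.congr_fun hr c)

/-- Vanishing on a residue field gives vanishing on the fields over it. -/
theorem zero_field_of_residueField (hv : Van X (d + 1)) (K : Type u) [CommRing K] [Algebra A K]
    (hK : IsField K) (q : Ideal K) [q.IsPrime] (p : Ideal A) [p.IsPrime]
    (hp : p = q.comap (algebraMap A K))
    (h : Zero A F d (ModuleCat.of A p.ResidueField)) : Zero A F d (ModuleCat.of A K) := by
  letI := hK.toField
  obtain rfl : q = ⊥ := Ideal.eq_bot_of_prime q
  let φ : p.ResidueField →ₐ[A] K := Ideal.ResidueField.liftₐ p (Algebra.ofId A K)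
    (by rw [hp]; exact fun a ha => ha) (by
      intro a ha
      exact isUnit_iff_ne_zero.2 fun h0 => ha (by rw [hp]; exact h0))
  letI : Algebra p.ResidueField K := φ.toRingHom.toAlgebra
  haveI : IsScalarTower A p.ResidueField K :=
    IsScalarTower.of_algebraMap_eq fun a => (φ.commutes a).symm
  exact zero_of_algebra A F hv p.ResidueField h K

/-- Vanishing where an annihilator is invertible. -/
theorem zero_of_isUnit (hv : Van X (d + 1)) (s : A)
    (hs : ∀ x : Coh.HH X (G F (ModuleCat.of A A)) d, s • x = 0) (B : Type u) [CommRing B]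
    [Algebra A B] (hu : IsUnit (algebraMap A B s)) : Zero A F d (ModuleCat.of A B) := by
  refine subsingleton_of_forall_eq 0 fun y => ?_
  obtain ⟨w, hw⟩ := hu.exists_left_inv
  have h : (s • 𝟙 (ModuleCat.of A B)) ≫ ModuleCat.ofHom (LinearMap.mulLeft A w) = 𝟙 _ :=
    ModuleCat.hom_ext (LinearMap.ext fun c => by
      show w * (s • c) = c
      rw [Algebra.smul_def, ← mul_assoc, hw, one_mul])
  rw [← HT_id A F d y, ← h, HT_comp, HT_smul, TopDegree.smul_eq_zero A F d hv s hs _ y, map_zero]

/-- Vanishing at all residue fields gives vanishing everywhere. -/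
theorem zero_all (hv : Van X (d + 1))
    (hfin : Module.Finite A (Coh.HH X (G F (ModuleCat.of A A)) d))
    (h : ∀ (p : Ideal A) [p.IsPrime], Zero A F d (ModuleCat.of A p.ResidueField))
    (M : ModuleCat.{u} A) : Zero A F d M := by
  let I := Module.annihilator A (Coh.HH X (G F (ModuleCat.of A A)) d)
  have hI : I = ⊤ := by
    by_contra hne
    obtain ⟨m, hm, hle⟩ := Ideal.exists_le_maximal I hne
    haveI := hm.isPrime
    obtain ⟨s, hs, hs'⟩ := exists_annihilator A F d hv hfin m (h m)
    exact hs (hle (Module.mem_annihilator.2 hs'))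
  refine subsingleton_of_forall_eq 0 fun y => ?_
  rw [← one_smul A y]
  exact TopDegree.smul_eq_zero A F d hv 1
    (fun x => Module.mem_annihilator.1 (hI ▸ Submodule.mem_top : (1 : A) ∈ I) x) M y

end

end Groth.Agent.Lib.Amp36.TopVanish
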