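import Groth.Agent.Lib.FlatCx.Above
import Groth.Agent.Lib.FlatCx.ProjCoker
import Groth.Agent.Lib.Exchange.Universal
import Mathlib.RingTheory.Spectrum.Prime.Noetherian
import Mathlib.RingTheory.Ideal.AssociatedPrime.Finiteness

/-!
# Truncating a complex of finite free modules to a given amplitude

A bounded above complex of finite flat modules over a Noetherian ring whose homology vanishes above `d`
and whose fibres have no homology below `d'` is computed by a complex of finite projective modules
in degrees `[d', d]`.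
-/

set_option autoImplicit false
set_option linter.style.haveILetI false
universe u

open CategoryTheory Limits TensorProduct Groth.Agent.Lib.FlatCx

namespace Groth.Agent.Lib.Amp36

noncomputable section

variable {A : Type u} [CommRing A]

/-- The homology of `L ⊗ M` in degree `i` vanishes. -/
def TZero (L : CochainComplex (ModuleCat.{u} A) ℤ) (i : ℤ) (M : Type u) [AddCommGroup M] [Module A M] :
    Prop :=
  Function.Exact ((L.d (i - 1) i).hom.rTensor M) ((L.d i (i + 1)).hom.rTensor M)

variable (L : CochainComplex (ModuleCat.{u} A) ℤ)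

theorem d_d_apply (i j k : ℤ) (x : L.X i) : (L.d j k).hom ((L.d i j).hom x) = 0 := by
  rw [← ConcreteCategory.comp_apply, L.d_comp_d]
  rfl

theorem tZero_of_isZero_T (i : ℤ) (M : Type u) [AddCommGroup M] [Module A M]
    (h : IsZero (CohIII.T L i (ModuleCat.of A M))) : TZero L i M := fun y =>
  ⟨(Elem.isZero_homology_iff (Above.prev_up (show i - 1 + 1 = i by omega)) (Above.next_up rfl)).1 h y,
    by
      rintro ⟨x, rfl⟩
      rw [← LinearMap.comp_apply, ← LinearMap.rTensor_comp, ← ModuleCat.hom_comp, L.d_comp_d,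
        ModuleCat.hom_zero, LinearMap.rTensor_zero, LinearMap.zero_apply]⟩

theorem tZero_congr {M N : Type u} [AddCommGroup M] [Module A M] [AddCommGroup N] [Module A N]
    (e : M ≃ₗ[A] N) (i : ℤ) (h : TZero L i N) : TZero L i M := by
  refine (Function.Exact.iff_of_ladder_linearEquiv
    (e₁ := TensorProduct.congr (LinearEquiv.refl A _) e)
    (e₂ := TensorProduct.congr (LinearEquiv.refl A _) e)
    (e₃ := TensorProduct.congr (LinearEquiv.refl A _) e) ?_ ?_).1 h
  all_goals exact TensorProduct.ext' fun _ _ => rfl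

theorem exact_of_tZero (i : ℤ) (h : TZero L i A) :
    Function.Exact (L.d (i - 1) i).hom (L.d i (i + 1)).hom := by
  refine (Function.Exact.iff_of_ladder_linearEquiv (e₁ := TensorProduct.rid A (L.X (i - 1)))
    (e₂ := TensorProduct.rid A (L.X i)) (e₃ := TensorProduct.rid A (L.X (i + 1))) ?_ ?_).2 h
  all_goals exact TensorProduct.ext' fun _ _ => by simp

/-- The cokernel of the differential into degree `j`. -/
abbrev Qc (j : ℤ) : Type u := L.X j ⧸ LinearMap.range (L.d (j - 1) j).hom

variable [IsNoetherianRing A]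

theorem projective_Qc (hfin : ∀ i, Module.Finite A (L.X i)) (hflat : ∀ i, Module.Flat A (L.X i))
    (d' : ℤ) (hfib : ∀ i, i < d' → ∀ x : PrimeSpectrum A, TZero L i x.asIdeal.ResidueField)
    (j : ℤ) (hj : j ≤ d') : Module.Projective A (Qc L j) := by
  haveI := hfin j
  haveI := hflat j
  refine ProjCoker.projective_coker (L.d (j - 1 - 1) (j - 1)).hom (L.d (j - 1) j).hom ?_ fun m hm => ?_
  · rw [← ModuleCat.hom_comp, L.d_comp_d, ModuleCat.hom_zero]
  · have h := tZero_congr L
      (LinearEquiv.ofBijective (IsScalarTower.toAlgHom A (A ⧸ m) m.ResidueField).toLinearMap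
        m.bijective_algebraMap_quotient_residueField) (j - 1) (hfib (j - 1) (by omega) ⟨m, inferInstance⟩)
    unfold TZero at h
    rwa [sub_add_cancel] at h

/-- Universal exactness below `d'`. -/
theorem tZero_below (hfin : ∀ i, Module.Finite A (L.X i)) (hflat : ∀ i, Module.Flat A (L.X i))
    (d' : ℤ) (hfib : ∀ i, i < d' → ∀ x : PrimeSpectrum A, TZero L i x.asIdeal.ResidueField)
    (i : ℤ) (hi : i < d') (W : Type u) [AddCommGroup W] [Module A W] [hW : Module.Finite A W] :
    TZero L i W := by
  haveI := projective_Qc L hfin hflat d' hfib i hi.le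
  haveI := hflat (i + 1)
  induction hW using IsNoetherianRing.induction_on_isQuotientEquivQuotientPrime A with
  | subsingleton W => exact fun y => ⟨fun _ => ⟨0, Subsingleton.elim _ _⟩, fun _ => Subsingleton.elim _ _⟩
  | quotient W p e =>
    let g : W →ₗ[A] p.asIdeal.ResidueField :=
      (Algebra.linearMap (A ⧸ p.asIdeal) p.asIdeal.ResidueField).restrictScalars A ∘ₗ e.toLinearMap
    have hg : Function.Injective g :=
      (Ideal.injective_algebraMap_quotient_residueField p.asIdeal).comp e.injective
    refine LinearMap.exact_iff.2 (le_antisymm (fun y (hy : (L.d i (i + 1)).hom.rTensor W y = 0) => ?_) ?_)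
    · have h2 : (L.d i (i + 1)).hom.rTensor _ (g.lTensor (L.X i) y) = 0 := by
        rw [← LinearMap.comp_apply, LinearMap.rTensor_comp_lTensor, ← LinearMap.lTensor_comp_rTensor,
          LinearMap.comp_apply, hy, map_zero]
      obtain ⟨w, hw⟩ := (hfib i hi p _).1 h2
      have hq : (LinearMap.range (L.d (i - 1) i).hom).mkQ.rTensor W y = 0 := by
        apply Module.Flat.lTensor_preserves_injective_linearMap (M := Qc L i) g hg
        rw [map_zero, ← LinearMap.comp_apply, LinearMap.lTensor_comp_rTensor,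
          ← LinearMap.rTensor_comp_lTensor, LinearMap.comp_apply, ← hw, ← LinearMap.rTensor_comp_apply,
          LinearMap.range_mkQ_comp, LinearMap.rTensor_zero, LinearMap.zero_apply]
      exact (_root_.rTensor_exact W (LinearMap.exact_map_mkQ_range _) (Submodule.mkQ_surjective _) y).1 hq
    · rintro _ ⟨x, rfl⟩
      rw [LinearMap.mem_ker, ← LinearMap.rTensor_comp_apply, ← ModuleCat.hom_comp, L.d_comp_d,
        ModuleCat.hom_zero, LinearMap.rTensor_zero, LinearMap.zero_apply]
  | exact W₁ W₂ W₃ f g hf hg hfg h₁ h₃ =>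
    refine LinearMap.exact_iff.2 (le_antisymm (fun y (hy : (L.d i (i + 1)).hom.rTensor W₂ y = 0) => ?_) ?_)
    · have h2 : (L.d i (i + 1)).hom.rTensor W₃ (g.lTensor (L.X i) y) = 0 := by
        rw [← LinearMap.comp_apply, LinearMap.rTensor_comp_lTensor, ← LinearMap.lTensor_comp_rTensor,
          LinearMap.comp_apply, hy, map_zero]
      obtain ⟨w, hw⟩ := (h₃ _).1 h2
      obtain ⟨w, rfl⟩ := LinearMap.lTensor_surjective (L.X (i - 1)) hg w
      obtain ⟨a, ha⟩ := (_root_.lTensor_exact (L.X i) hfg hg _).1
        (show g.lTensor (L.X i) (y - (L.d (i - 1) i).hom.rTensor W₂ w) = 0 by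
          rw [map_sub, ← hw, ← LinearMap.comp_apply, ← LinearMap.comp_apply,
            LinearMap.rTensor_comp_lTensor, LinearMap.lTensor_comp_rTensor, sub_self])
      have ha0 : (L.d i (i + 1)).hom.rTensor W₁ a = 0 := by
        apply Module.Flat.lTensor_preserves_injective_linearMap (M := L.X (i + 1)) f hf
        rw [map_zero, ← LinearMap.comp_apply, LinearMap.lTensor_comp_rTensor,
          ← LinearMap.rTensor_comp_lTensor, LinearMap.comp_apply, ha, map_sub, hy,
          ← LinearMap.rTensor_comp_apply, ← ModuleCat.hom_comp, L.d_comp_d,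
          ModuleCat.hom_zero, LinearMap.rTensor_zero, LinearMap.zero_apply, sub_zero]
      obtain ⟨c, hc⟩ := (h₁ _).1 ha0
      refine ⟨w + f.lTensor (L.X (i - 1)) c, ?_⟩
      rw [map_add, ← LinearMap.comp_apply ((L.d (i - 1) i).hom.rTensor W₂) (f.lTensor _),
        LinearMap.rTensor_comp_lTensor, ← LinearMap.lTensor_comp_rTensor, LinearMap.comp_apply, hc, ha]
      abel
    · rintro _ ⟨x, rfl⟩
      rw [LinearMap.mem_ker, ← LinearMap.rTensor_comp_apply, ← ModuleCat.hom_comp, L.d_comp_d,
        ModuleCat.hom_zero, LinearMap.rTensor_zero, LinearMap.zero_apply]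

omit [IsNoetherianRing A]

/-! ### The subquotient in degrees `[d', d]` -/

variable (d' d : ℤ)

/-- The subcomplex truncated above `d`. -/
def S (i : ℤ) : Submodule A (L.X i) :=
  if i < d then ⊤ else if i = d then LinearMap.ker (L.d i (i + 1)).hom else ⊥

/-- The part below `d'`. -/
def R (i : ℤ) : Submodule A (L.X i) :=
  if i < d' then ⊤ else if i = d' then LinearMap.range (L.d (i - 1) i).hom else ⊥

theorem S_map (i : ℤ) (x : L.X i) (hx : x ∈ S L d i) : (L.d i (i + 1)).hom x ∈ S L d (i + 1) := by
  unfold S at *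
  split_ifs with h1 h2
  · trivial
  · exact d_d_apply L _ _ _ x
  · rw [if_neg (by omega)] at hx
    split_ifs at hx with h3
    · simpa using hx
    · rw [Submodule.mem_bot] at hx
      rw [hx, map_zero]; exact zero_mem _

theorem R_map (i : ℤ) (x : L.X i) (hx : x ∈ R L d' i) : (L.d i (i + 1)).hom x ∈ R L d' (i + 1) := by
  unfold R at *
  split_ifs with h1 h2
  · trivial
  · rw [add_sub_cancel_right]; exact ⟨x, rfl⟩
  · rw [if_neg (by omega)] at hx
    split_ifs at hx with h3
    · obtain ⟨y, rfl⟩ := hx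
      rw [d_d_apply]; exact zero_mem _
    · rw [Submodule.mem_bot] at hx
      rw [hx, map_zero]; exact zero_mem _

theorem eq_zero_of_mem_S {i : ℤ} (hi : d < i) {x : L.X i} (hx : x ∈ S L d i) : x = 0 := by
  unfold S at hx
  rw [if_neg (by omega), if_neg (by omega), Submodule.mem_bot] at hx
  exact hx

theorem eq_zero_of_mem_R {i : ℤ} (hi : d' < i) {x : L.X i} (hx : x ∈ R L d' i) : x = 0 := by
  unfold R at hx
  rw [if_neg (by omega), if_neg (by omega), Submodule.mem_bot] at hx
  exact hx

/-- The differential of the subcomplex. -/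
def dS (i : ℤ) : S L d i →ₗ[A] S L d (i + 1) :=
  ((L.d i (i + 1)).hom.domRestrict (S L d i)).codRestrict _ fun x => S_map L d i x.1 x.2

theorem dS_coe (i : ℤ) (x : S L d i) : (dS L d i x : L.X (i + 1)) = (L.d i (i + 1)).hom x := rfl

/-- The subcomplex truncated above `d`. -/
def sub : CochainComplex (ModuleCat.{u} A) ℤ :=
  CochainComplex.of (fun i => ModuleCat.of A (S L d i)) (fun i => ModuleCat.ofHom (dS L d i))
    fun i => ModuleCat.hom_ext (LinearMap.ext fun x => Subtype.ext (d_d_apply L _ _ _ x.1))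

/-- The part of the subcomplex to divide out. -/
abbrev RS (i : ℤ) : Submodule A (S L d i) := (R L d' i).comap (S L d i).subtype

theorem RS_map (i : ℤ) : RS L d' d i ≤ (RS L d' d (i + 1)).comap (dS L d i) :=
  fun x hx => R_map L d' i x.1 hx

/-- The differential of the subquotient. -/
def dQ (i : ℤ) : (S L d i ⧸ RS L d' d i) →ₗ[A] (S L d (i + 1) ⧸ RS L d' d (i + 1)) :=
  Submodule.mapQ _ _ (dS L d i) (RS_map L d' d i)

/-- The truncated complex. -/
def trunc : CochainComplex (ModuleCat.{u} A) ℤ :=
  CochainComplex.of (fun i => ModuleCat.of A (S L d i ⧸ RS L d' d i))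
    (fun i => ModuleCat.ofHom (dQ L d' d i))
    fun i => ModuleCat.hom_ext (LinearMap.ext fun x => by
      obtain ⟨x, rfl⟩ := Submodule.mkQ_surjective _ x
      exact (congrArg (Submodule.Quotient.mk (p := RS L d' d (i + 1 + 1)))
        (Subtype.ext (d_d_apply L _ _ _ x.1) :
          dS L d (i + 1) (dS L d i x) = 0)).trans (Submodule.Quotient.mk_zero _))

theorem sub_d (i : ℤ) : (sub L d).d i (i + 1) = ModuleCat.ofHom (dS L d i) := by
  simp [sub]

theorem trunc_d (i : ℤ) : (trunc L d' d).d i (i + 1) = ModuleCat.ofHom (dQ L d' d i) := by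
  simp [trunc]

/-- The inclusion. -/
def incl : sub L d ⟶ L where
  f i := ModuleCat.ofHom (S L d i).subtype
  comm' i j hij := by
    obtain rfl : i + 1 = j := hij
    rw [sub_d]
    rfl

/-- The projection. -/
def proj : sub L d ⟶ trunc L d' d where
  f i := ModuleCat.ofHom (RS L d' d i).mkQ
  comm' i j hij := by
    obtain rfl : i + 1 = j := hij
    rw [sub_d, trunc_d]
    rfl

theorem quasiIso_incl (hhi : ∀ i, d < i → Function.Exact (L.d (i - 1) i).hom (L.d i (i + 1)).hom) :
    QuasiIso (incl L d) := by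
  rw [quasiIso_iff]
  intro j
  rw [quasiIsoAt_iff_isIso_homologyMap, ConcreteCategory.isIso_iff_bijective]
  obtain ⟨i, rfl⟩ : ∃ i, i + 1 = j := ⟨j - 1, by omega⟩
  constructor
  · refine (Elem.injective_homologyMap_iff (incl L d) (Above.prev_up rfl) (Above.next_up rfl)).2 ?_
    intro z hz y hy
    rw [sub_d] at hz
    have hy' : (L.d i (i + 1)).hom y = z.1 := hy
    by_cases hi : i < d
    · refine ⟨⟨y, by unfold S; rw [if_pos hi]; trivial⟩, ?_⟩
      rw [sub_d]
      exact Subtype.ext hy'
    · refine ⟨0, ?_⟩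
      rw [map_zero]
      exact (Subtype.ext (eq_zero_of_mem_S L d (by omega) z.2) : z = 0).symm
  · refine (Elem.surjective_homologyMap_iff (incl L d) (Above.prev_up rfl) (Above.next_up rfl)).2 ?_
    intro z hz
    by_cases hi : i + 1 ≤ d
    · have hzS : z ∈ S L d (i + 1) := by
        unfold S
        split_ifs
        · trivial
        · exact hz
        · omega
      refine ⟨⟨z, hzS⟩, 0, ?_, ?_⟩
      · rw [sub_d]; exact Subtype.ext hz
      · show z = z + (L.d i (i + 1)).hom 0
        rw [map_zero, add_zero]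
    · have h := hhi (i + 1) (by omega)
      rw [add_sub_cancel_right] at h
      obtain ⟨y, hy⟩ := (h z).1 hz
      refine ⟨0, -y, map_zero _, ?_⟩
      show (0 : L.X (i + 1)) = z + (L.d i (i + 1)).hom (-y)
      rw [map_neg, hy, add_neg_cancel]

theorem RS_acyclic (hlo : ∀ i, i < d' → Function.Exact (L.d (i - 1) i).hom (L.d i (i + 1)).hom)
    (i : ℤ) (r : S L d (i + 1)) (hr : r ∈ RS L d' d (i + 1))
    (h0 : (L.d (i + 1) (i + 1 + 1)).hom r.1 = 0) :
    ∃ y ∈ RS L d' d i, dS L d i y = r := by
  by_cases hi : i + 1 ≤ d' ∧ i < d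
  · obtain ⟨y, hy⟩ : ∃ y, (L.d i (i + 1)).hom y = r.1 := by
      rcases hi.1.lt_or_eq with h | h
      · have h' := hlo (i + 1) h
        rw [add_sub_cancel_right] at h'
        exact (h' r.1).1 h0
      · have hr' : r.1 ∈ R L d' (i + 1) := hr
        unfold R at hr'
        rw [if_neg (by omega), if_pos h, add_sub_cancel_right] at hr'
        exact hr'
    refine ⟨⟨y, by unfold S; rw [if_pos hi.2]; trivial⟩, ?_, Subtype.ext hy⟩
    show y ∈ R L d' i
    unfold R
    rw [if_pos (by omega)]
    trivial
  · refine ⟨0, zero_mem _, ?_⟩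
    rw [map_zero]
    have hr0 : r.1 = 0 := by
      by_cases h1 : i + 1 ≤ d'
      · exact eq_zero_of_mem_S L d (by omega) r.2
      · exact eq_zero_of_mem_R L d' (by omega) hr
    exact (Subtype.ext hr0 : r = 0).symm

theorem quasiIso_proj (hlo : ∀ i, i < d' → Function.Exact (L.d (i - 1) i).hom (L.d i (i + 1)).hom) :
    QuasiIso (proj L d' d) := by
  rw [quasiIso_iff]
  intro j
  rw [quasiIsoAt_iff_isIso_homologyMap, ConcreteCategory.isIso_iff_bijective]
  obtain ⟨i, rfl⟩ : ∃ i, i + 1 = j := ⟨j - 1, by omega⟩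
  constructor
  · refine (Elem.injective_homologyMap_iff (proj L d' d) (Above.prev_up rfl) (Above.next_up rfl)).2 ?_
    intro (z : S L d (i + 1)) hz y hy
    rw [sub_d] at hz
    rw [trunc_d] at hy
    obtain ⟨y, rfl⟩ := Submodule.mkQ_surjective _ y
    have hm : z - dS L d i y ∈ RS L d' d (i + 1) := (Submodule.Quotient.eq _).1 hy.symm
    obtain ⟨w, -, hw⟩ := RS_acyclic L d' d hlo i _ hm (by
      show (L.d (i + 1) (i + 1 + 1)).hom (z.1 - (L.d i (i + 1)).hom y.1) = 0
      rw [map_sub, d_d_apply, sub_zero]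
      exact congrArg Subtype.val hz)
    refine ⟨y + w, ?_⟩
    rw [sub_d]
    show dS L d i (y + w) = z
    rw [map_add, hw]
    abel
  · refine (Elem.surjective_homologyMap_iff (proj L d' d) (Above.prev_up rfl) (Above.next_up rfl)).2 ?_
    intro z' hz'
    rw [trunc_d] at hz'
    obtain ⟨z, rfl⟩ := Submodule.mkQ_surjective _ z'
    have hm : dS L d (i + 1) z ∈ RS L d' d (i + 1 + 1) := (Submodule.Quotient.mk_eq_zero _).1 hz'
    obtain ⟨w, hwR, hw⟩ := RS_acyclic L d' d hlo (i + 1) _ hm (d_d_apply L _ _ _ z.1)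
    refine ⟨z - w, 0, ?_, ?_⟩
    · rw [sub_d]
      show dS L d (i + 1) (z - w) = 0
      rw [map_sub, hw, sub_self]
    · refine Eq.trans ?_ ((congrArg _ (map_zero _)).trans (add_zero _)).symm
      show (RS L d' d (i + 1)).mkQ (z - w) = (RS L d' d (i + 1)).mkQ z
      rw [map_sub, show (RS L d' d (i + 1)).mkQ w = 0 from
        (Submodule.Quotient.mk_eq_zero _).2 hwR, sub_zero]

theorem isZero_sub (i : ℤ) (hi : d < i) : IsZero ((sub L d).X i) := by
  have : Subsingleton (S L d i) := by
    exact ⟨fun a b => Subtype.ext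
      ((eq_zero_of_mem_S L d hi a.2).trans (eq_zero_of_mem_S L d hi b.2).symm)⟩
  exact ModuleCat.isZero_of_subsingleton (ModuleCat.of A (S L d i))

theorem isZero_trunc (i : ℤ) (hi : i < d' ∨ d < i) : IsZero ((trunc L d' d).X i) := by
  have : Subsingleton (S L d i ⧸ RS L d' d i) := by
    rcases hi with hi | hi
    · rw [Submodule.Quotient.subsingleton_iff]
      refine eq_top_iff.2 fun x _ => ?_
      show x.1 ∈ R L d' i
      unfold R
      rw [if_pos hi]
      trivial
    · haveI : Subsingleton (S L d i) := ModuleCat.isZero_iff_subsingleton.1 (isZero_sub L d i hi)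
      exact (Submodule.mkQ_surjective _).subsingleton
  exact ModuleCat.isZero_of_subsingleton (ModuleCat.of A (S L d i ⧸ RS L d' d i))

variable [IsNoetherianRing A]

theorem flat_ker_high (hflat : ∀ i, Module.Flat A (L.X i)) (b : ℤ) (hb : ∀ i, b < i → IsZero (L.X i))
    (hhi : ∀ i, d < i → Function.Exact (L.d (i - 1) i).hom (L.d i (i + 1)).hom) (i : ℤ) (hi : d ≤ i) :
    Module.Flat A (LinearMap.ker (L.d i (i + 1)).hom) := by
  haveI := hflat
  exact Above.flat_ker (W := fun i => L.X i) (fun i j => (L.d i j).hom) b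
    (fun i hi => ModuleCat.isZero_iff_subsingleton.1 (hb i hi)) d
    (fun i j k hij hjk hd => by
      subst hij hjk
      have h := hhi (i + 1) hd
      rwa [add_sub_cancel_right] at h) i (i + 1) rfl hi

/-- The cokernels `L_i / S_i` are flat. -/
theorem flat_quot_S (hflat : ∀ i, Module.Flat A (L.X i)) (b : ℤ) (hb : ∀ i, b < i → IsZero (L.X i))
    (hhi : ∀ i, d < i → Function.Exact (L.d (i - 1) i).hom (L.d i (i + 1)).hom) (i : ℤ) (hi : i ≤ d) :
    Module.Flat A (L.X i ⧸ S L d i) := by
  rcases hi.lt_or_eq with h | h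
  · haveI : Subsingleton (L.X i ⧸ S L d i) := by
      rw [Submodule.Quotient.subsingleton_iff]
      unfold S
      rw [if_pos h]
    infer_instance
  · have hS : S L d i = LinearMap.ker (L.d i (i + 1)).hom := by
      unfold S
      rw [if_neg (by omega), if_pos h]
    have hr : LinearMap.range (L.d i (i + 1)).hom = LinearMap.ker (L.d (i + 1) (i + 1 + 1)).hom := by
      have h' := hhi (i + 1) (by omega)
      rw [add_sub_cancel_right] at h'
      exact h'.linearMap_ker_eq.symm
    haveI := flat_ker_high L d hflat b hb hhi (i + 1) (by omega)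
    exact Module.Flat.of_linearEquiv ((Submodule.quotEquivOfEq _ _ hS).trans
      ((L.d i (i + 1)).hom.quotKerEquivRange.trans (LinearEquiv.ofEq _ _ hr)))

theorem flat_S (hflat : ∀ i, Module.Flat A (L.X i)) (b : ℤ) (hb : ∀ i, b < i → IsZero (L.X i))
    (hhi : ∀ i, d < i → Function.Exact (L.d (i - 1) i).hom (L.d i (i + 1)).hom) (i : ℤ) :
    Module.Flat A (S L d i) := by
  rcases lt_trichotomy i d with h | h | h
  · haveI := hflat i
    exact Module.Flat.of_linearEquiv (LinearEquiv.ofTop (S L d i) (by unfold S; rw [if_pos h]))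
  · haveI := flat_ker_high L d hflat b hb hhi i h.ge
    exact Module.Flat.of_linearEquiv (LinearEquiv.ofEq _ (LinearMap.ker (L.d i (i + 1)).hom)
      (by unfold S; rw [if_neg (by omega), if_pos h]))
  · haveI : Subsingleton (S L d i) := ModuleCat.isZero_iff_subsingleton.1 (isZero_sub L d i h)
    infer_instance

theorem finite_trunc (hfin : ∀ i, Module.Finite A (L.X i)) (i : ℤ) :
    Module.Finite A ((trunc L d' d).X i) := by
  haveI := hfin i
  exact (inferInstance : Module.Finite A (S L d i ⧸ RS L d' d i))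

theorem flat_trunc (hfin : ∀ i, Module.Finite A (L.X i)) (hflat : ∀ i, Module.Flat A (L.X i))
    (b : ℤ) (hb : ∀ i, b < i → IsZero (L.X i))
    (hhi : ∀ i, d < i → Function.Exact (L.d (i - 1) i).hom (L.d i (i + 1)).hom)
    (hfib : ∀ i, i < d' → ∀ x : PrimeSpectrum A, TZero L i x.asIdeal.ResidueField) (i : ℤ) :
    Module.Flat A ((trunc L d' d).X i) := by
  show Module.Flat A (S L d i ⧸ RS L d' d i)
  by_cases hr : i < d' ∨ d < i
  · haveI : Subsingleton (S L d i ⧸ RS L d' d i) :=
      ModuleCat.isZero_iff_subsingleton.1 (isZero_trunc L d' d i hr)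
    infer_instance
  push Not at hr
  rcases hr.1.lt_or_eq with h | h
  · haveI := flat_S L d hflat b hb hhi i
    refine Module.Flat.of_linearEquiv (Submodule.quotEquivOfEqBot _ ?_)
    exact eq_bot_iff.2 fun x hx => Subtype.ext (eq_zero_of_mem_R L d' h hx)
  · have hR : R L d' i = LinearMap.range (L.d (i - 1) i).hom := by
      unfold R
      rw [if_neg (by omega), if_pos h.symm]
    have hle : R L d' i ≤ S L d i := by
      rw [hR]
      rintro _ ⟨y, rfl⟩
      unfold S
      split_ifs
      · trivial
      · exact d_d_apply L _ _ _ y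
      · omega
    haveI := projective_Qc L hfin hflat d' hfib i h.ge
    haveI : Module.Flat A (L.X i ⧸ R L d' i) :=
      Module.Flat.of_linearEquiv (Submodule.quotEquivOfEq _ _ hR)
    haveI := flat_quot_S L d hflat b hb hhi i hr.2
    refine Ker.flat_of_exact (Submodule.mapQ (RS L d' d i) (R L d' i) (S L d i).subtype le_rfl)
      (Submodule.factor hle) ?_ (Submodule.factor_surjective hle) ?_
    · rw [← LinearMap.ker_eq_bot, Submodule.ker_mapQ]
      refine eq_bot_iff.2 ?_
      rintro _ ⟨x, hx, rfl⟩
      exact (Submodule.Quotient.mk_eq_zero _).2 hx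
    · intro y
      obtain ⟨y, rfl⟩ := Submodule.mkQ_surjective _ y
      constructor
      · intro hy
        exact ⟨Submodule.Quotient.mk ⟨y, (Submodule.Quotient.mk_eq_zero (S L d i)).1 hy⟩, rfl⟩
      · rintro ⟨x, hx⟩
        obtain ⟨x, rfl⟩ := Submodule.mkQ_surjective _ x
        rw [← hx]
        exact (Submodule.Quotient.mk_eq_zero (S L d i)).2 x.2

/-- A complex in degrees `[d', d]` of finite projective modules computing the same functors. -/
theorem exists_trunc (hfin : ∀ i, Module.Finite A (L.X i)) (hflat : ∀ i, Module.Flat A (L.X i))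
    (b : ℤ) (hb : ∀ i, b < i → IsZero (L.X i))
    (hhi : ∀ i, d < i → TZero L i A)
    (hfib : ∀ i, i < d' → ∀ x : PrimeSpectrum A, TZero L i x.asIdeal.ResidueField) :
    ∃ L' : CochainComplex (ModuleCat.{u} A) ℤ,
      (∀ i, Module.Finite A (L'.X i) ∧ Module.Projective A (L'.X i)) ∧
      (∀ i, i < d' ∨ d < i → IsZero (L'.X i)) ∧
      ∀ (i : ℤ) (M : ModuleCat.{u} A), Nonempty (CohIII.T L' i M ≅ CohIII.T L i M) := by
  have hhi' : ∀ i, d < i → Function.Exact (L.d (i - 1) i).hom (L.d i (i + 1)).hom :=
    fun i hi => exact_of_tZero L i (hhi i hi)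
  have hlo : ∀ i, i < d' → Function.Exact (L.d (i - 1) i).hom (L.d i (i + 1)).hom :=
    fun i hi => exact_of_tZero L i (tZero_below L hfin hflat d' hfib i hi A)
  have hSflat : ∀ i, Module.Flat A ((sub L d).X i) := fun i => flat_S L d hflat b hb hhi' i
  have hTflat := flat_trunc L d' d hfin hflat b hb hhi' hfib
  refine ⟨trunc L d' d, fun i => ⟨finite_trunc L d' d hfin i, ?_⟩, fun i hi => isZero_trunc L d' d i hi,
    fun i M => ?_⟩
  · haveI := finite_trunc L d' d hfin i
    haveI := hTflat i
    haveI : Module.FinitePresentation A ((trunc L d' d).X i) := Module.finitePresentation_of_finite A _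
    exact Module.Flat.projective_of_finitePresentation
  · haveI := quasiIso_incl L d hhi'
    haveI := quasiIso_proj L d' d hlo
    haveI := Above.quasiIso_tmap (φ := incl L d) (M := M) hSflat hflat (max b d)
      (fun j hj => isZero_sub L d j (by omega)) (fun j hj => hb j (by omega))
    haveI := Above.quasiIso_tmap (φ := proj L d' d) (M := M) hSflat hTflat (max b d)
      (fun j hj => isZero_sub L d j (by omega)) (fun j hj => isZero_trunc L d' d j (Or.inr (by omega)))
    exact ⟨(asIso (HomologicalComplex.homologyMap (Above.tmap (proj L d' d) M) i)).symm ≪≫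
      asIso (HomologicalComplex.homologyMap (Above.tmap (incl L d) M) i)⟩

end

end Groth.Agent.Lib.Amp36
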